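import Cfsg.Agent.H47.Basic2

/-!
Asymmetric `Y_M` for `M` with the basic property (S2850).
-/

set_option autoImplicit false
open Cfsg Subgroup
open scoped commutatorElement

namespace Cfsg.Agent.H47

variable {G : Type*} [Group G] {p : ℕ} [Finite G] [Fact p.Prime]

theorem exists_max_charP {X : Subgroup G} (hX : X ∈ charPSubgroups p G) :
    ∃ Z ∈ maxCharPSubgroups p G, X ≤ Z := by
  obtain ⟨Z, ⟨hZ, hXZ⟩, hmax⟩ := Set.exists_max_image
    {Z : Subgroup G | Z ∈ charPSubgroups p G ∧ X ≤ Z} (fun Z => Nat.card Z) (Set.toFinite _)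
    ⟨X, hX, le_rfl⟩
  refine ⟨Z, ⟨hZ, fun L hL hZL => ?_⟩, hXZ⟩
  exact (Subgroup.eq_of_le_of_card_ge hZL (hmax L ⟨hL, hXZ.trans hZL⟩)).symm

/-- every member of `𝓛` above `M ∈ 𝔐` lies in `M†`. -/
theorem IsInFrakM.overgroup_le {M X : Subgroup G} (hM : IsInFrakM p M) (hX : X ∈ charPSubgroups p G)
    (hMX : M ≤ X) : X ≤ M ⊔ centralizer (largestPReducedOf p M : Set G) := by
  obtain ⟨Z, hZ, hXZ⟩ := exists_max_charP hX
  rw [← hM.2.2.1 Z hZ (hMX.trans hXZ)]; exact hXZ

/-- `N_G(E) ≤ M†` for nontrivial normal `p`-subgroups `E` of `M`. -/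
theorem IsInFrakM.normalizer_le {Q M E : Subgroup G} (hQ : IsPGroup p Q) (hL : IsLarge Q)
    {S : Sylow p G} (hSM : (S : Subgroup G) ≤ M) (hM : IsInFrakM p M) (hE : IsPGroup p E) (hE1 : E ≠ ⊥)
    (hME : M ≤ normalizer (E : Set G)) :
    normalizer (E : Set G) ≤ M ⊔ centralizer (largestPReducedOf p M : Set G) := by
  refine IsInFrakM.overgroup_le hM ?_ hME
  have hO : pCoreOf p (normalizer (E : Set G)) ≠ ⊥ := by
    intro h
    apply hE1
    rw [eq_bot_iff, ← h]
    exact le_pCoreOf Subgroup.le_normalizer le_rfl hE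
  rw [mem_charP_iff]
  exact ⟨hO, large_parabolic_facts hQ hL (hSM.trans hME) hO⟩

/-- `M† ≤ N(Y_M)` -/
theorem dagger_le_normalizer (M : Subgroup G) :
    M ⊔ centralizer (largestPReducedOf p M : Set G) ≤
      normalizer (largestPReducedOf p M : Set G) :=
  sup_le (pRed_largestPReducedOf p M).norm (centralizer_le_normalizer _)

/-- `O_p(M) = C_S(Y_M)` -/
theorem IsInFrakM.pCoreOf_eq {S : Sylow p G} {M : Subgroup G} (hSM : (S : Subgroup G) ≤ M)
    (hM : IsInFrakM p M) :
    pCoreOf p M = (S : Subgroup G) ⊓ centralizer (largestPReducedOf p M : Set G) := by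
  have hred := pRed_largestPReducedOf p M
  have hsyl := syl_inf_centralizer (sylIn_of_sylow S hSM) hred
  have hcl := hM.2.2.2.2.1
  rw [isPClosed_iff_sylIn] at hcl
  have hMn : M ≤ normalizer ((M ⊓ centralizer (largestPReducedOf p M : Set G) : Subgroup G) : Set G) :=
    le_normalizer_inf le_normalizer
      (hred.norm.trans (normalizer_le_normalizer_centralizer _))
  apply le_antisymm
  · exact le_inf (pCoreOf_le_sylIn (sylIn_of_sylow S hSM)) hred.pCoreOf_le_centralizer
  · have h1 := hcl.le_of_normal hsyl.le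
    have h2 : (S : Subgroup G) ⊓ centralizer (largestPReducedOf p M : Set G) =
        pCoreOf p (M ⊓ centralizer (largestPReducedOf p M : Set G)) := by
      apply hcl.eq_of_le hsyl.le hsyl.isPGroup
      exact pCoreOf_le_sylIn hsyl
    rw [h2]
    exact le_pCoreOf ((pCoreOf_le _ _).trans inf_le_left) (le_normalizer_pCoreOf_of_le hMn)
      (pCoreOf_isPGroup _ _)

/-- `O_p(M)` is a Sylow `p`-subgroup of `C_G(Y_M)` -/
theorem IsInFrakM.sylIn_centralizer {S : Sylow p G} {M : Subgroup G} (hSM : (S : Subgroup G) ≤ M)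
    (hM : IsInFrakM p M) :
    SylIn p (pCoreOf p M) (centralizer (largestPReducedOf p M : Set G)) := by
  have hred := pRed_largestPReducedOf p M
  rw [IsInFrakM.pCoreOf_eq hSM hM]
  exact (sylIn_of_sylow S (hSM.trans hred.norm)).inf_normal (centralizer_le_normalizer _)
    (normalizer_le_normalizer_centralizer _)

/-- the asymmetry hypothesis in usable form -/
theorem asym_commute {Y : Subgroup G} (h : ¬ IsSymmetricIn Y) {g : G}
    (h1 : Y ≤ normalizer ((Y.map (MulAut.conj g).toMonoidHom : Subgroup G) : Set G))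
    (h2 : Y.map (MulAut.conj g).toMonoidHom ≤ normalizer (Y : Set G)) :
    Y.map (MulAut.conj g).toMonoidHom ≤ centralizer (Y : Set G) := by
  by_contra hne
  apply h
  refine ⟨g, ?_, le_inf (le_normalizer_iff_commutator_le_left.1 h2)
    (le_normalizer_iff_commutator_le_right.1 h1)⟩
  intro h3
  rw [commutator_comm, commutator_eq_bot_iff_le_centralizer] at h3
  exact hne h3

/-- conjugates under words: the subsets `𝒢_n = M (H M)^n`. -/
def wordSet (M H : Subgroup G) : ℕ → Set G
  | 0 => M
  | n + 1 => {g | ∃ m ∈ M, ∃ h ∈ H, ∃ g' ∈ wordSet M H n, g = m * h * g'}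

theorem wordSet_mul_right {M H : Subgroup G} : ∀ n, ∀ g ∈ wordSet M H n, ∀ m ∈ M,
    g * m ∈ wordSet M H n
  | 0, g, hg, m, hm => mul_mem (S := Subgroup G) hg hm
  | n + 1, g, hg, m, hm => by
    obtain ⟨a, ha, h, hh, g', hg', rfl⟩ := hg
    exact ⟨a, ha, h, hh, g' * m, wordSet_mul_right n g' hg' m hm, by group⟩

theorem wordSet_append {M H : Subgroup G} : ∀ n, ∀ g ∈ wordSet M H n, ∀ h ∈ H, ∀ m ∈ M,
    g * h * m ∈ wordSet M H (n + 1)
  | 0, g, hg, h, hh, m, hm => ⟨g, hg, h, hh, m, hm, by group⟩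
  | n + 1, g, hg, h, hh, m, hm => by
    obtain ⟨a, ha, b, hb, g', hg', rfl⟩ := hg
    exact ⟨a, ha, b, hb, g' * h * m, wordSet_append n g' hg' h hh m hm, by group⟩

theorem wordSet_inv {M H : Subgroup G} : ∀ n, ∀ g ∈ wordSet M H n, g⁻¹ ∈ wordSet M H n
  | 0, g, hg => inv_mem (S := Subgroup G) hg
  | n + 1, g, hg => by
    obtain ⟨a, ha, b, hb, g', hg', rfl⟩ := hg
    have h1 := wordSet_append n g'⁻¹ (wordSet_inv n g' hg') b⁻¹ (inv_mem hb) a⁻¹ (inv_mem ha)
    have : (a * b * g')⁻¹ = g'⁻¹ * b⁻¹ * a⁻¹ := by group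
    rw [this]; exact h1

theorem exists_wordSet {M H : Subgroup G} {g : G} (hg : g ∈ M ⊔ H) : ∃ n, g ∈ wordSet M H n := by
  rw [Subgroup.sup_eq_closure] at hg
  induction hg using closure_induction with
  | mem x hx =>
    rcases hx with hx | hx
    · exact ⟨0, hx⟩
    · exact ⟨1, 1, one_mem _, x, hx, 1, one_mem M, by group⟩
  | one => exact ⟨0, one_mem M⟩
  | mul x y _ _ ihx ihy =>
    obtain ⟨n, hn⟩ := ihx
    obtain ⟨k, hk⟩ := ihy
    have key : ∀ n, ∀ x ∈ wordSet M H n, ∀ k, ∀ y ∈ wordSet M H k, x * y ∈ wordSet M H (n + k) := by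
      intro n
      induction n with
      | zero =>
        intro x hx k y hy
        rw [zero_add]
        cases k with
        | zero => exact mul_mem (S := Subgroup G) hx hy
        | succ k =>
          obtain ⟨a, ha, b, hb, g', hg', rfl⟩ := hy
          exact ⟨x * a, mul_mem (S := Subgroup G) hx ha, b, hb, g', hg', by group⟩
      | succ n ih =>
        intro x hx k y hy
        obtain ⟨a, ha, b, hb, g', hg', rfl⟩ := hx
        have : n + 1 + k = (n + k) + 1 := by omega
        rw [this]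
        exact ⟨a, ha, b, hb, g' * y, ih g' hg' k y hy, by group⟩
    exact ⟨n + k, key n x hn k y hk⟩
  | inv x _ ih =>
    obtain ⟨n, hn⟩ := ih
    exact ⟨n, wordSet_inv n x hn⟩

/-- The basic propagation argument: `Y` asymmetric, `P` a Sylow `p`-subgroup of `C(Y)` containing `Y`, `L` a `p`-group
between `P` and `N(Y)`, `M` normalizing `P` and `Y`. Then all conjugates of `Y` under `⟨M, N_G(L)⟩` lie in `P`. -/
theorem asym_propagate {Y P L M : Subgroup G} (hasym : ¬ IsSymmetricIn Y) (hYP : Y ≤ P)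
    (hP : SylIn p P (centralizer (Y : Set G))) (hL : IsPGroup p L) (hPL : P ≤ L)
    (hLY : L ≤ normalizer (Y : Set G)) (hMP : M ≤ normalizer (P : Set G))
    (hMY : M ≤ normalizer (Y : Set G)) {g : G} (hg : g ∈ M ⊔ normalizer (L : Set G)) :
    Y.map (MulAut.conj g).toMonoidHom ≤ P := by
  have hLC : L ⊓ centralizer (Y : Set G) ≤ P := by
    have := hP.eq_of_le inf_le_right (hL.to_le inf_le_left) (le_inf hPL hP.le)
    exact this.le
  have key : ∀ n, ∀ g ∈ wordSet M (normalizer (L : Set G)) n,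
      Y.map (MulAut.conj g).toMonoidHom ≤ P := by
    intro n
    induction n with
    | zero =>
      intro g hg
      rw [norm_map_conj (hMY hg)]; exact hYP
    | succ n ih =>
      have h1 : ∀ g ∈ wordSet M (normalizer (L : Set G)) (n + 1),
          Y.map (MulAut.conj g).toMonoidHom ≤ normalizer (Y : Set G) := by
        rintro _ ⟨m, hm, h, hh, g', hg', rfl⟩
        rw [map_conj_mul, map_conj_mul]
        have h2 : (Y.map (MulAut.conj g').toMonoidHom).map (MulAut.conj h).toMonoidHom ≤ L := by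
          rw [← norm_map_conj hh]; exact map_conj_mono ((ih g' hg').trans hPL)
        have h3 := map_conj_mono (g := m) (h2.trans hLY)
        rwa [← normalizer_map_conj, norm_map_conj (hMY hm)] at h3
      intro g hg
      have h2 := h1 g hg
      have h3 : Y ≤ normalizer ((Y.map (MulAut.conj g).toMonoidHom : Subgroup G) : Set G) := by
        have := h1 g⁻¹ (wordSet_inv _ g hg)
        rw [normalizer_map_conj]
        rw [map_conj_le_iff, inv_inv] at this
        exact this
      have h4 := asym_commute hasym h3 h2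
      obtain ⟨m, hm, h, hh, g', hg', rfl⟩ := hg
      rw [map_conj_mul, map_conj_mul] at h4 ⊢
      have h5 : (Y.map (MulAut.conj g').toMonoidHom).map (MulAut.conj h).toMonoidHom ≤ L := by
        rw [← norm_map_conj hh]; exact map_conj_mono ((ih g' hg').trans hPL)
      have h6 : (Y.map (MulAut.conj g').toMonoidHom).map (MulAut.conj h).toMonoidHom ≤
          centralizer (Y : Set G) := by
        rw [map_conj_le_iff, ← centralizer_map_conj, norm_map_conj (hMY (inv_mem hm))] at h4
        exact h4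
      rw [← norm_map_conj (hMP hm)]
      exact map_conj_mono ((le_inf h5 h6).trans hLC)
  obtain ⟨n, hn⟩ := exists_wordSet hg
  exact key n g hn

/-- S2850, all parts -/
theorem asym_facts {Q M : Subgroup G} {S : Sylow p G} (hQ : IsPGroup p Q) (hL : IsLarge Q)
    (hSM : (S : Subgroup G) ≤ M) (hM : IsInFrakM p M)
    (hasym : ¬ IsSymmetricIn (largestPReducedOf p M)) :
    (∀ L : Subgroup G, IsPGroup p L → pCoreOf p M ≤ L →
      normalizer (L : Set G) ≤ normalizer (pCoreOf p M : Set G)) ∧
    normalizer (pCoreOf p M : Set G) ≤ M ⊔ centralizer (largestPReducedOf p M : Set G) := by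
  set Y := largestPReducedOf p M with hY
  set P := pCoreOf p M with hP
  have hred : PRed p Y M := pRed_largestPReducedOf p M
  have hPs := IsInFrakM.sylIn_centralizer hSM hM
  have hPp : IsPGroup p P := pCoreOf_isPGroup p M
  have hYP : Y ≤ P := hred.le_pCoreOf
  have hP1 : P ≠ ⊥ := (mem_charP_iff.1 hM.1).1
  have hMP : M ≤ normalizer (P : Set G) := le_normalizer_pCoreOf p M
  have hNP : normalizer (P : Set G) ≤ M ⊔ centralizer (Y : Set G) :=
    IsInFrakM.normalizer_le hQ hL hSM hM hPp hP1 hMP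
  have hNPY : normalizer (P : Set G) ≤ normalizer (Y : Set G) :=
    hNP.trans (dagger_le_normalizer M)
  -- Y ≠ 1
  have hY1 : Y ≠ ⊥ := by
    intro h
    have hS1 : (S : Subgroup G) ≠ ⊥ := by
      intro h1
      apply hP1
      have := pCoreOf_le_sylIn (sylIn_of_sylow S hSM)
      rw [h1] at this
      exact le_bot_iff.1 this
    have h1 := (pRed_Z1 (p := p) (S : Subgroup G)).ncl_le_largest
      (sylIn_of_sylow S hSM) le_rfl hSM (charP'_of_mem hM.1)
    have h2 : Z1 p (S : Subgroup G) ≤ ⊥ := h ▸ h1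
    exact Z1_ne_bot S.2 hS1 (le_bot_iff.1 h2)
  -- first for `L ≤ N(Y)`
  have key : ∀ L : Subgroup G, IsPGroup p L → P ≤ L → L ≤ normalizer (Y : Set G) →
      normalizer (L : Set G) ≤ normalizer (P : Set G) := by
    intro L hLp hPL hLY
    have h1 : ∀ g ∈ M ⊔ normalizer (L : Set G), Y.map (MulAut.conj g).toMonoidHom ≤ P :=
      fun g hg => asym_propagate hasym hYP hPs hLp hPL hLY hMP hred.norm hg
    -- the normal closure of Y
    have h2 : ncl Y (M ⊔ normalizer (L : Set G)) ≤ P := by
      unfold ncl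
      rw [closure_le]
      rintro _ ⟨g, hg, x, hx, rfl⟩
      exact h1 g hg ⟨x, hx, rfl⟩
    have h3 := le_normalizer_ncl Y (M ⊔ normalizer (L : Set G))
    have h4 := IsInFrakM.normalizer_le hQ hL hSM hM (hPp.to_le h2)
      (fun h => hY1 (le_bot_iff.1 ((le_ncl Y _).trans h.le))) (le_sup_left.trans h3)
    have h5 : normalizer (L : Set G) ≤ normalizer (Y : Set G) :=
      ((le_sup_right.trans h3).trans h4).trans (dagger_le_normalizer M)
    have h6 : L ⊓ centralizer (Y : Set G) = P := by
      exact hPs.eq_of_le inf_le_right (hLp.to_le inf_le_left) (le_inf hPL hPs.le)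
    rw [← h6]
    exact le_normalizer_inf le_rfl (h5.trans (normalizer_le_normalizer_centralizer _))
  refine ⟨?_, hNP⟩
  intro L hLp hPL
  -- `P` is normal in `L`
  have h1 : L ≤ normalizer (P : Set G) := by
    set L0 := L ⊓ normalizer (P : Set G) with hL0
    have h2 := key L0 (hLp.to_le inf_le_left) (le_inf hPL le_normalizer)
      (inf_le_right.trans hNPY)
    by_contra hne
    have h3 : L0 < L := lt_of_le_of_ne inf_le_left (fun h => hne (h ▸ inf_le_right))
    have h4 := normalizer_grow hLp h3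
    exact absurd (le_inf inf_le_left (inf_le_right.trans h2) : L ⊓ normalizer (L0 : Set G) ≤ L0)
      (not_le_of_gt h4)
  exact key L hLp hPL (h1.trans hNPY)

end Cfsg.Agent.H47
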