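import Mathlib
import Cfsg.Prelude.Def_Local
import Cfsg.Agent.FStar.Layer
import Cfsg.Agent.Cop.Basic
import Cfsg.Agent.H62.Subnormal
import Cfsg.Agent.H47.Basic
import Cfsg.Agent.H47.Core
import Cfsg.Agent.H47.Cop
import Cfsg.Agent.H47.PRed
import Cfsg.Agent.H47.Red3

/-!
# p-groups acting on the generalized Fitting subgroup of a group with trivial p-core
-/

set_option autoImplicit false
set_option linter.style.haveILetI false

namespace Cfsg.Agent.H47

open Subgroup
open scoped commutatorElement

variable {p : ℕ}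

section Decomp

variable {X : Type*} [Group X] [Finite X]

/-- A subnormal subgroup of `F*(X)` is generated by the components it contains and its intersection
with the Fitting subgroup. -/
theorem fstar_decomp {L : Subgroup X} (hL : L.IsSubnormal)
    (hLF : L ≤ Cfsg.generalizedFittingSubgroup X) :
    L = sSup {K : Subgroup X | Cfsg.IsComponent K ∧ K ≤ L} ⊔ (L ⊓ Cfsg.fittingSubgroup X) := by
  set A := sSup {K : Subgroup X | Cfsg.IsComponent K ∧ K ≤ L} with hA
  set B := sSup {K : Subgroup X | Cfsg.IsComponent K ∧ ¬ K ≤ L} with hB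
  have hAL : A ≤ L := sSup_le fun K hK => hK.2
  have hAB : A ≤ centralizer (B : Set X) := by
    apply sSup_le
    intro K hK
    rw [le_centralizer_iff]
    apply sSup_le
    intro K' hK'
    rw [← commutator_eq_bot_iff_le_centralizer]
    apply FStar.component_commute hK'.1 hK.1
    rintro rfl
    exact hK'.2 hK.2
  have hBL : B ≤ centralizer (L : Set X) := by
    apply sSup_le
    intro K hK
    rw [← commutator_eq_bot_iff_le_centralizer]
    exact (FStar.component_le_or_commute hK.1 hL).resolve_left hK.2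
  have hlay : Cfsg.layer X = A ⊔ B := by
    apply le_antisymm
    · rw [FStar.layer_le_iff]
      intro K hK
      by_cases h : K ≤ L
      · exact (le_sSup (show K ∈ {K : Subgroup X | Cfsg.IsComponent K ∧ K ≤ L} from ⟨hK, h⟩)).trans
          le_sup_left
      · exact (le_sSup (show K ∈ {K : Subgroup X | Cfsg.IsComponent K ∧ ¬ K ≤ L} from ⟨hK, h⟩)).trans
          le_sup_right
    · exact sup_le (sSup_le fun K hK => FStar.component_le_layer hK.1)
        (sSup_le fun K hK => FStar.component_le_layer hK.1)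
  apply le_antisymm
  · intro x hx
    have hx' := hLF hx
    have hFn : Cfsg.layer X ≤ normalizer (Cfsg.fittingSubgroup X : Set X) := by
      rw [normalizer_eq_top]; exact le_top
    unfold Cfsg.generalizedFittingSubgroup at hx'
    obtain ⟨e, he, f, hf, rfl⟩ := (mem_sup_of_le_normalizer hFn).1 hx'
    rw [hlay] at he
    obtain ⟨a, ha, b, hb, rfl⟩ := (mem_sup_of_le_normalizer
      (hAB.trans (centralizer_le_normalizer _))).1 he
    have hbf : b * f ∈ L := by
      have : b * f = a⁻¹ * (a * b * f) := by group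
      rw [this]
      exact mul_mem (inv_mem (hAL ha)) hx
    have hcomm : ∀ y ∈ Cfsg.layer X, y * f = f * y := by
      intro y hy
      have := FStar.commutator_eq_bot_iff_forall.1 (FStar.layer_commute_fitting (G := X)) y hy f hf
      exact this
    have hBlay : B ≤ Cfsg.layer X := by rw [hlay]; exact le_sup_right
    have hbB : b ∈ centralizer (B : Set X) := by
      rw [mem_centralizer_iff]
      intro y hy
      have h1 := mem_centralizer_iff.1 (hBL hy) _ hbf
      -- b f y = y b f
      have h2 := hcomm y (hBlay hy)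
      have h3 : b * y * f = y * b * f := by
        calc b * y * f = b * (y * f) := by group
          _ = b * (f * y) := by rw [h2]
          _ = b * f * y := by group
          _ = y * (b * f) := h1
          _ = y * b * f := by group
      exact (mul_right_cancel h3).symm
    have hbF : b ∈ Cfsg.fittingSubgroup X := by
      have : b ∈ Cfsg.layer X ⊓ Cfsg.fittingSubgroup X := by
        rw [FStar.layer_inf_fitting]
        refine mem_inf.2 ⟨hBlay hb, ?_⟩
        rw [hlay]
        rw [mem_centralizer_iff]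
        intro y hy
        obtain ⟨a', ha', b', hb', rfl⟩ := (mem_sup_of_le_normalizer
          (hAB.trans (centralizer_le_normalizer _))).1 hy
        have e1 := mem_centralizer_iff.1 hbB b' hb'
        have e2 := mem_centralizer_iff.1 (hAB ha') b hb
        calc a' * b' * b = a' * (b' * b) := by group
          _ = a' * (b * b') := by rw [e1]
          _ = (a' * b) * b' := by group
          _ = (b * a') * b' := by rw [e2]
          _ = b * (a' * b') := by group
      exact (mem_inf.1 this).2
    have : a * b * f = a * (b * f) := by group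
    rw [this]
    exact mul_mem (mem_sup_left ha) (mem_sup_right (mem_inf.2 ⟨hbf, mul_mem hbF hf⟩))
  · exact sup_le hAL inf_le_left

theorem card_fitting_coprime [Fact p.Prime] (hO : Cfsg.pCore p X = ⊥) :
    (Nat.card ↥(Cfsg.fittingSubgroup X)).Coprime p := by
  rw [Nat.coprime_comm, (Fact.out : p.Prime).coprime_iff_not_dvd]
  intro hdvd
  obtain ⟨x, hx⟩ := exists_prime_orderOf_dvd_card' p hdvd
  have hnil := Solv.fitting_isNilpotent (G := X)
  have hxo : orderOf (x : X) = p := by rw [orderOf_coe, hx]
  have hsub : (zpowers (x : X)).IsSubnormal :=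
    H62.isSubnormal_of_le_nilpotent ((zpowers_le).2 x.2)
      (Subgroup.Normal.isSubnormal inferInstance) hnil
  have hp : IsPGroup p (zpowers (x : X)) := by
    apply IsPGroup.of_card (n := 1)
    rw [Nat.card_zpowers, hxo, pow_one]
  have h1 := le_pCore_of_isSubnormal hsub hp
  rw [hO, le_bot_iff, zpowers_eq_bot] at h1
  rw [h1, orderOf_one] at hxo
  exact (Fact.out : p.Prime).one_lt.ne hxo

end Decomp

section Act

variable {G : Type*} [Group G] [Finite G]

omit [Finite G] in
/-- Conjugates of components by elements normalizing `H`. -/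
theorem comp_conj {H : Subgroup G} {y : G} (hy : y ∈ normalizer (H : Set G)) {K : Subgroup ↥H}
    (hK : Cfsg.IsComponent K) : ∃ K' : Subgroup ↥H, Cfsg.IsComponent K' ∧
      K'.map H.subtype = (K.map H.subtype).map (MulAut.conj y).toMonoidHom := by
  refine ⟨K.map (H.normalizerMonoidHom ⟨y, hy⟩).toMonoidHom,
    (FStar.isComponent_map_equiv _).2 hK, ?_⟩
  rw [map_map, map_map]
  rfl

omit [Finite G] in
theorem ncl_eq_self_commutator {K Y : Subgroup G} (hK : ⁅K, K⁆ = K) : ⁅ncl K Y, ncl K Y⁆ = ncl K Y := by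
  apply le_antisymm (commutator_le_self _)
  apply ncl_le
  · conv_lhs => rw [← hK]
    exact commutator_mono (le_ncl K Y) (le_ncl K Y)
  · exact le_normalizer_commutator (le_normalizer_ncl K Y) (le_normalizer_ncl K Y)

theorem ncl_subnormal {H Y K : Subgroup G} (hYH : Y ≤ normalizer (H : Set G)) (hKH : K ≤ H)
    (hK : Cfsg.IsComponent (K.subgroupOf H)) : ((ncl K Y).subgroupOf H).IsSubnormal := by
  set M := sSup {K' : Subgroup ↥H | Cfsg.IsComponent K' ∧ K'.map H.subtype ≤ ncl K Y} with hM
  have hMs : M.IsSubnormal := H62.isSubnormal_sSup _ fun K' hK' => hK'.1.1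
  have hmap : M.map H.subtype = ncl K Y := by
    apply le_antisymm
    · rw [map_le_iff_le_comap]
      apply sSup_le
      intro K' hK'
      rw [← map_le_iff_le_comap]
      exact hK'.2
    · apply ncl_le
      · have h1 : K.subgroupOf H ≤ M := le_sSup ⟨hK, by
          rw [map_subgroupOf_eq_of_le hKH]; exact le_ncl K Y⟩
        have h2 := map_mono (f := H.subtype) h1
        rwa [map_subgroupOf_eq_of_le hKH] at h2
      · intro y hy
        apply mem_normalizer_of_map_conj_le
        rw [map_map, map_le_iff_le_comap]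
        apply sSup_le
        intro K' hK'
        obtain ⟨K'', h1, h2⟩ := comp_conj (hYH hy) hK'.1
        rw [← map_le_iff_le_comap, ← map_map, ← h2]
        apply map_mono
        apply le_sSup
        refine ⟨h1, ?_⟩
        rw [h2]
        have := map_mono (f := (MulAut.conj y).toMonoidHom) hK'.2
        rwa [norm_map_conj (le_normalizer_ncl K Y hy)] at this
  rw [← hmap]
  have : (M.map H.subtype).subgroupOf H = M := by
    rw [subgroupOf, comap_map_eq_self_of_injective H.subtype_injective]
  rwa [this]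

/-- Action of `Y` on (the span of the orbit of) a component. -/
theorem comp_act {H Y K L : Subgroup G} (hYH : Y ≤ normalizer (H : Set G)) (hKH : K ≤ H)
    (hK : Cfsg.IsComponent (K.subgroupOf H)) (hKL : K ≤ L) (hYL : Y ≤ normalizer (L : Set G)) :
    K ≤ ⁅⁅L, Y⁆, Y⁆ ∨ ⁅K, Y⁆ = ⊥ := by
  have hDL : ncl K Y ≤ L := ncl_le hKL hYL
  have hDH : ncl K Y ≤ H := ncl_le hKH hYH
  have hYD := le_normalizer_ncl K Y
  have hperf : ⁅K, K⁆ = K := FStar.commutator_self ((FStar.isQuasisimple_subgroupOf hKH).1 hK.2)
  have hDperf := ncl_eq_self_commutator (Y := Y) hperf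
  have hMD : ⁅ncl K Y, Y⁆ ≤ ncl K Y := le_normalizer_iff_commutator_le_left.1 hYD
  have hDs := ncl_subnormal hYH hKH hK
  have hMs : ((⁅ncl K Y, Y⁆ : Subgroup G).subgroupOf H).IsSubnormal := by
    apply isSubnormal_of_le_normalizer hDs
    · exact comap_mono hMD
    · intro x hx
      rw [mem_subgroupOf] at hx
      have h1 := normalizer_commutator_ge_left (ncl K Y) Y hx
      rw [mem_normalizer_iff] at h1 ⊢
      intro z
      have := h1 (z : G)
      simpa [mem_subgroupOf] using this
  rcases FStar.component_le_or_commute hK hMs with h | h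
  · left
    have hKM : K ≤ ⁅ncl K Y, Y⁆ := by
      have := map_mono (f := H.subtype) h
      rwa [map_subgroupOf_eq_of_le hKH, map_subgroupOf_eq_of_le (hMD.trans hDH)] at this
    have hDM : ncl K Y ≤ ⁅ncl K Y, Y⁆ := ncl_le hKM (normalizer_commutator_ge_right _ _)
    calc K ≤ ncl K Y := le_ncl K Y
      _ ≤ ⁅ncl K Y, Y⁆ := hDM
      _ ≤ ⁅⁅ncl K Y, Y⁆, Y⁆ := commutator_mono hDM le_rfl
      _ ≤ ⁅⁅L, Y⁆, Y⁆ := commutator_mono (commutator_mono hDL le_rfl) le_rfl
  · right
    rw [FStar.subgroupOf_commutator_eq_bot_iff hKH (hMD.trans hDH),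
      commutator_eq_bot_iff_le_centralizer] at h
    have h2 : ncl K Y ≤ centralizer (⁅ncl K Y, Y⁆ : Subgroup G) := by
      apply ncl_le h
      exact (normalizer_commutator_ge_right _ _).trans (normalizer_le_normalizer_centralizer _)
    rw [← commutator_eq_bot_iff_le_centralizer, commutator_comm] at h2
    have h3 := FStar.commutator_eq_bot_of_perfect hDperf h2
    rw [eq_bot_iff, ← h3]
    exact commutator_mono (le_ncl K Y) le_rfl

/-- The core of the splitting. -/
theorem fact_core [Fact p.Prime] {H Y L N : Subgroup G} (hY : IsPGroup p Y)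
    (hYH : Y ≤ normalizer (H : Set G)) (hYL : Y ≤ normalizer (L : Set G)) (𝒮 : Set (Subgroup G))
    (hS : ∀ K ∈ 𝒮, K ≤ H ∧ Cfsg.IsComponent (K.subgroupOf H)) (hL : L = sSup 𝒮 ⊔ N)
    (hN : (Nat.card N).Coprime p) (hYN : Y ≤ normalizer (N : Set G)) :
    ⁅L, Y⁆ ⊔ (L ⊓ centralizer (Y : Set G)) = L ∧ ⁅L, Y⁆ = ⁅⁅L, Y⁆, Y⁆ := by
  have hcop : (Nat.card Y).Coprime (Nat.card N) := by
    obtain ⟨n, hn⟩ := hY.exists_card_eq
    rw [hn]
    exact (Nat.Coprime.pow_right n hN).symm
  have hnil : Group.IsNilpotent Y := hY.isNilpotent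
  have hsolv : Group.IsSolvable Y ∨ Group.IsSolvable N := Or.inl inferInstance
  have hLY : ⁅L, Y⁆ ≤ L := le_normalizer_iff_commutator_le_left.1 hYL
  have hSL : ∀ K ∈ 𝒮, K ≤ L := fun K hK => by
    rw [hL]; exact (le_sSup hK).trans le_sup_left
  have hNL : N ≤ L := by rw [hL]; exact le_sup_right
  have hact : ∀ K ∈ 𝒮, K ≤ ⁅⁅L, Y⁆, Y⁆ ∨ ⁅K, Y⁆ = ⊥ := fun K hK =>
    comp_act hYH (hS K hK).1 (hS K hK).2 (hSL K hK) hYL
  have hWL : ⁅⁅L, Y⁆, Y⁆ ≤ ⁅L, Y⁆ := commutator_mono hLY le_rfl
  have h1 : ⁅L, Y⁆ ⊔ (L ⊓ centralizer (Y : Set G)) = L := by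
    apply le_antisymm (sup_le hLY inf_le_left)
    conv_lhs => rw [hL]
    apply sup_le
    · apply sSup_le
      intro K hK
      rcases hact K hK with h | h
      · exact (h.trans hWL).trans le_sup_left
      · exact (le_inf (hSL K hK) (commutator_eq_bot_iff_le_centralizer.1 h)).trans le_sup_right
    · rw [← Cop.commutator_sup_centralizer hYN hcop hsolv]
      exact sup_le_sup (commutator_mono hNL le_rfl) (inf_le_inf_right _ hNL)
  refine ⟨h1, le_antisymm ?_ hWL⟩
  have hLW : L ≤ normalizer ((⁅⁅L, Y⁆, Y⁆ : Subgroup G) : Set G) := by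
    conv_lhs => rw [← h1]
    apply sup_le (normalizer_commutator_ge_left _ _)
    apply le_normalizer_commutator
    · exact inf_le_left.trans (normalizer_commutator_ge_left L Y)
    · exact inf_le_right.trans (centralizer_le_normalizer _)
  have h2 : L ≤ cmod Y ⁅⁅L, Y⁆, Y⁆ := by
    conv_lhs => rw [hL]
    apply sup_le
    · apply sSup_le
      intro K hK
      rw [le_cmod_iff]
      refine ⟨(hSL K hK).trans hLW, ?_⟩
      rcases hact K hK with h | h
      · rw [commutator_comm]
        exact (commutator_mono h le_rfl).trans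
          (le_normalizer_iff_commutator_le_left.1 (normalizer_commutator_ge_right _ _))
      · rw [commutator_comm, h]; exact bot_le
    · rw [le_cmod_iff]
      refine ⟨hNL.trans hLW, ?_⟩
      rw [commutator_comm, ← Cop.commutator_commutator_eq hYN hcop hsolv]
      exact commutator_mono (commutator_mono hNL le_rfl) le_rfl
  have h3 := (le_cmod_iff.1 h2).2
  rwa [commutator_comm Y L] at h3

/-- Splitting for subnormal subgroups of `F*(H)`, where `O_p(H) = 1` (ambient version). -/
theorem fstar_split [Fact p.Prime] {H Y L : Subgroup G} (hO : Cfsg.pCore p ↥H = ⊥)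
    (hY : IsPGroup p ↥Y) (hYH : Y ≤ normalizer (H : Set G))
    (hLF : L ≤ (Cfsg.generalizedFittingSubgroup ↥H).map H.subtype)
    (hLsn : (L.subgroupOf H).IsSubnormal) (hYL : Y ≤ normalizer (L : Set G)) :
    ⁅L, Y⁆ ⊔ (L ⊓ centralizer (Y : Set G)) = L ∧ ⁅L, Y⁆ = ⁅⁅L, Y⁆, Y⁆ := by
  have hLH : L ≤ H := hLF.trans (map_subtype_le _)
  have hLF' : L.subgroupOf H ≤ Cfsg.generalizedFittingSubgroup ↥H := by
    rw [subgroupOf]
    intro x hx
    obtain ⟨y, hy, hxy⟩ := hLF (mem_comap.1 hx)
    have : y = x := Subtype.ext hxy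
    rwa [← this]
  have hdec := fstar_decomp hLsn hLF'
  set F := (Cfsg.fittingSubgroup ↥H).map H.subtype with hF
  have hYF : Y ≤ normalizer (F : Set G) := by
    have hch : (Cfsg.fittingSubgroup ↥H).Characteristic := inferInstance
    intro y hy
    apply mem_normalizer_of_map_conj_le
    rw [hF]
    rintro _ ⟨_, ⟨x, hx, rfl⟩, rfl⟩
    have hxy : (H.normalizerMonoidHom ⟨y, hYH hy⟩) x ∈ Cfsg.fittingSubgroup ↥H := by
      have := Solv.map_fitting (H.normalizerMonoidHom ⟨y, hYH hy⟩)
      rw [← this]
      exact mem_map_of_mem _ hx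
    exact ⟨_, hxy, rfl⟩
  apply fact_core (H := H) (N := L ⊓ F) hY hYH hYL
    {K : Subgroup G | ∃ K' : Subgroup ↥H, (Cfsg.IsComponent K' ∧ K' ≤ L.subgroupOf H) ∧
      K = K'.map H.subtype}
  · rintro _ ⟨K', ⟨hK', _⟩, rfl⟩
    refine ⟨map_subtype_le _, ?_⟩
    rwa [subgroupOf, comap_map_eq_self_of_injective H.subtype_injective]
  · have h1 := congrArg (Subgroup.map H.subtype) hdec
    rw [map_subgroupOf_eq_of_le hLH, Subgroup.map_sup, Subgroup.map_inf_eq _ _ _ H.subtype_injective,
      map_subgroupOf_eq_of_le hLH] at h1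
    conv_lhs => rw [h1]
    congr 1
    rw [(gc_map_comap H.subtype).l_sSup]
    apply le_antisymm
    · apply iSup₂_le
      intro K hK
      exact le_sSup ⟨K, hK, rfl⟩
    · apply sSup_le
      rintro _ ⟨K, hK, rfl⟩
      exact le_iSup₂_of_le K hK le_rfl
  · have h2 : (Nat.card F).Coprime p := by
      rw [hF, Subgroup.card_map_of_injective H.subtype_injective]
      exact card_fitting_coprime hO
    exact Nat.Coprime.coprime_dvd_left (card_dvd_of_le inf_le_right) h2
  · exact le_normalizer_inf hYL hYF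

end Act

end Cfsg.Agent.H47
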