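import Cfsg.Agent.FStar.AxB
import Cfsg.Agent.H47.FAct
import Cfsg.Agent.H47.Frat

/-!
# p-groups acting on the generalized Fitting subgroup: S2816, S2817
-/

set_option autoImplicit false
set_option linter.style.haveILetI false

namespace Cfsg.Agent.H47

open Subgroup
open scoped commutatorElement

variable {p : ℕ}

section

variable {X : Type*} [Group X] [Finite X]

theorem split_top [Fact p.Prime] {Y L : Subgroup X} (hO : Cfsg.pCore p X = ⊥) (hY : IsPGroup p Y)
    (hLF : L ≤ Cfsg.generalizedFittingSubgroup X) (hL : L.IsSubnormal)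
    (hYL : Y ≤ normalizer (L : Set X)) :
    ⁅L, Y⁆ ⊔ (L ⊓ centralizer (Y : Set X)) = L ∧ ⁅L, Y⁆ = ⁅⁅L, Y⁆, Y⁆ := by
  apply fstar_split (H := ⊤) _ hY (by rw [normalizer_eq_top]; exact le_top) _ _ hYL
  · have h1 : pCoreOf p (⊤ : Subgroup X) = ⊥ := by rw [pCoreOf_top, hO]
    exact (map_eq_bot_iff_of_injective _ (⊤ : Subgroup X).subtype_injective).1 h1
  · have h1 := FStar.map_generalizedFitting (Subgroup.topEquiv (G := X))
    have h2 : (Subgroup.topEquiv (G := X)).toMonoidHom = (⊤ : Subgroup X).subtype := rfl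
    rw [h2] at h1
    rw [h1]
    exact hLF
  · exact hL.subgroupOf

omit [Finite X] in
theorem le_of_commutator_eq {K Y W : Subgroup X} (hK : K.IsSubnormal) (hYK : Y ≤ K)
    (hW : W ≤ ⁅W, Y⁆) : W ≤ K := by
  induction hK with
  | top => exact le_top
  | step H K hle hSn hN ih =>
    have h1 := ih (hYK.trans hle)
    have h2 : K ≤ normalizer (H : Set X) := step_le_normalizer hle hN
    calc W ≤ ⁅W, Y⁆ := hW
      _ ≤ ⁅K, H⁆ := commutator_mono h1 hYK
      _ ≤ H := by rw [commutator_comm]; exact le_normalizer_iff_commutator_le_left.1 h2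

theorem inf_fstar_le {K : Subgroup X} (hK : K.IsSubnormal) :
    K ⊓ Cfsg.generalizedFittingSubgroup X ≤ (Cfsg.generalizedFittingSubgroup ↥K).map K.subtype := by
  have hs : (K ⊓ Cfsg.generalizedFittingSubgroup X).IsSubnormal :=
    hK.inf (Subgroup.Normal.isSubnormal inferInstance)
  rw [fstar_decomp hs inf_le_right]
  apply sup_le
  · apply sSup_le
    rintro K' ⟨hK', hle⟩
    have hK'K : K' ≤ K := hle.trans inf_le_left
    rw [← map_subgroupOf_eq_of_le hK'K]
    apply map_mono
    exact (FStar.component_le_layer (FStar.isComponent_subgroupOf hK' hK'K)).trans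
      FStar.layer_le_generalizedFitting
  · have h1 : K ⊓ Cfsg.generalizedFittingSubgroup X ⊓ Cfsg.fittingSubgroup X ≤ K :=
      inf_le_left.trans inf_le_left
    rw [← map_subgroupOf_eq_of_le h1]
    apply map_mono
    refine le_trans ?_ FStar.fitting_le_generalizedFitting
    apply Solv.le_fitting
    · apply normal_subgroupOf_of_le
      apply le_normalizer_inf (le_normalizer_inf le_normalizer _)
      · rw [normalizer_eq_top]; exact le_top
      · rw [normalizer_eq_top]; exact le_top
    · have hn := Solv.fitting_isNilpotent (G := X)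
      have h2 : Group.IsNilpotent ↥(K ⊓ Cfsg.generalizedFittingSubgroup X ⊓ Cfsg.fittingSubgroup X) :=
        Subgroup.isNilpotent_of_ker_le_center (inclusion inf_le_right) (by
          rw [(MonoidHom.ker_eq_bot_iff _).2 (inclusion_injective _)]; exact bot_le)
      exact (Group.isNilpotent_congr (subgroupOfEquivOfLe h1)).2 h2

/-- A `p`-group centralizing `F*(X)` is trivial if `O_p(X) = 1`. -/
theorem eq_bot_of_centralizes [Fact p.Prime] {Y : Subgroup X} (hO : Cfsg.pCore p X = ⊥)
    (hY : IsPGroup p Y) (h : ⁅Cfsg.generalizedFittingSubgroup X, Y⁆ = ⊥) : Y = ⊥ := by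
  rw [commutator_comm, commutator_eq_bot_iff_le_centralizer] at h
  set C := centralizer (Cfsg.generalizedFittingSubgroup X : Set X) with hC
  have hCn : C.Normal := inferInstance
  have hCF : C ≤ Cfsg.generalizedFittingSubgroup X := FStar.centralizer_generalizedFitting_le
  have hYs : Y.IsSubnormal := by
    apply isSubnormal_of_le_normalizer (hCn.isSubnormal) h
    refine le_trans ?_ (centralizer_le_normalizer _)
    rw [le_centralizer_iff]
    exact (h.trans hCF).trans (by rw [le_centralizer_iff])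
  rw [eq_bot_iff, ← hO]
  exact le_pCore_of_isSubnormal hYs hY

/-- Action of a `p`-group on the abelianization when the latter is a `p'`-group. -/
theorem mem_commutator_of_fixed [Fact p.Prime] {Q L : Subgroup X} (hQ : IsPGroup p Q)
    (hQL : Q ≤ normalizer (L : Set X)) (hLQ : ⁅L, Q⁆ = L)
    (hL : ∀ x ∈ L, ∃ m : ℕ, m.Coprime p ∧ x ^ m ∈ ⁅L, L⁆) {x : X} (hx : x ∈ L)
    (hxQ : x ∈ centralizer (Q : Set X)) : x ∈ ⁅L, L⁆ := by
  classical
  haveI : Fintype Q := Fintype.ofFinite _
  let f : Q → (L →* Abelianization L) := fun q =>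
    Abelianization.of.comp (L.normalizerMonoidHom ⟨q, hQL q.2⟩).toMonoidHom
  have hf : ∀ (q : Q) (l : L), f q l =
      Abelianization.of ⟨q * l * (q : X)⁻¹, (mem_normalizer_iff.1 (hQL q.2) l).1 l.2⟩ := by
    intro q l; rfl
  let ν : L →* Abelianization L := ∏ q : Q, f q
  have hν : ∀ l, ν l = ∏ q : Q, f q l := fun l => by
    simp [ν, MonoidHom.finsetProd_apply]
  have hker : L ≤ ν.ker.map L.subtype := by
    conv_lhs => rw [← hLQ]
    rw [commutator_le]
    intro l hl q hq
    have hmem : q * l * q⁻¹ ∈ L := (mem_normalizer_iff.1 (hQL hq) l).1 hl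
    refine ⟨⟨l, hl⟩ * ⟨q * l * q⁻¹, hmem⟩⁻¹, ?_, ?_⟩
    · rw [SetLike.mem_coe, MonoidHom.mem_ker, map_mul, map_inv, mul_inv_eq_one, hν, hν]
      symm
      refine Fintype.prod_equiv (Equiv.mulRight ⟨q, hq⟩) _ _ ?_
      intro r
      rw [hf, hf]
      congr 1
      apply Subtype.ext
      simp [Equiv.coe_mulRight, mul_assoc]
    · simp [commutatorElement_def, mul_assoc]
  have h1 : ν ⟨x, hx⟩ = 1 := by
    obtain ⟨y, hy, hyx⟩ := hker hx
    have : y = ⟨x, hx⟩ := Subtype.ext hyx
    rw [← this]; exact hy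
  rw [hν] at h1
  have h2 : ∀ q : Q, f q ⟨x, hx⟩ = Abelianization.of ⟨x, hx⟩ := by
    intro q
    rw [hf]
    congr 1
    apply Subtype.ext
    have := mem_centralizer_iff.1 hxQ q q.2
    simp [this]
  simp only [h2, Finset.prod_const, Finset.card_univ] at h1
  rw [← map_pow, ← MonoidHom.mem_ker, Abelianization.ker_of] at h1
  have h3 : x ^ Fintype.card Q ∈ ⁅L, L⁆ := by
    rw [← map_subtype_commutator]
    exact ⟨_, h1, rfl⟩
  obtain ⟨m, hm, hxm⟩ := hL x hx
  obtain ⟨n, hn⟩ := hQ.exists_card_eq
  rw [Nat.card_eq_fintype_card] at hn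
  rw [hn] at h3
  exact eq_mem_of_pow_mem_coprime (Nat.Coprime.pow_right n hm) h3 hxm

omit [Finite X] in
theorem central_le_frattini {Z : Subgroup X} (hZ : Z ≤ center X) (hZc : Z ≤ commutator X) :
    Z ≤ frattini X := by
  unfold frattini Order.radical
  apply le_iInf₂
  intro M hM
  by_contra hne
  have hs : M ⊔ Z = ⊤ := hM.2 _ (lt_of_le_of_ne le_sup_left (fun h => hne (h ▸ le_sup_right)))
  have h1 := FStar.commutator_sup_central_le (N := M) hZ
  rw [hs] at h1
  exact hne ((hZc.trans h1).trans (commutator_le_self _))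

omit [Finite X] in
theorem inf_centralizer_le_Fr {L F : Subgroup X} (hF : F ≤ centralizer (L : Set X))
    (hc : L ⊓ F ≤ ⁅L, L⁆) : L ⊓ F ≤ (frattini ↥L).map L.subtype := by
  have h1 : (L ⊓ F).subgroupOf L ≤ frattini ↥L := by
    apply central_le_frattini
    · intro x hx
      rw [mem_subgroupOf] at hx
      rw [mem_center_iff]
      intro y
      apply Subtype.ext
      exact mem_centralizer_iff.1 (hF (mem_inf.1 hx).2) y y.2
    · intro x hx
      rw [mem_subgroupOf] at hx
      have := hc hx
      rw [← map_subtype_commutator] at this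
      obtain ⟨y, hy, hyx⟩ := this
      have : y = x := Subtype.ext hyx
      rwa [← this]
  have h2 := map_mono (f := L.subtype) h1
  rwa [map_subgroupOf_eq_of_le inf_le_left] at h2

/-- Elements of a subnormal subgroup of `F*(X)` have `p'`-powers in the derived subgroup. -/
theorem pow_mem_commutator_of_fstar [Fact p.Prime] (hO : Cfsg.pCore p X = ⊥) {L : Subgroup X}
    (hL : L.IsSubnormal) (hLF : L ≤ Cfsg.generalizedFittingSubgroup X) {x : X} (hx : x ∈ L) :
    ∃ m : ℕ, m.Coprime p ∧ x ^ m ∈ ⁅L, L⁆ := by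
  refine ⟨Nat.card ↥(Cfsg.fittingSubgroup X), card_fitting_coprime hO, ?_⟩
  rw [fstar_decomp hL hLF] at hx
  set A := sSup {K : Subgroup X | Cfsg.IsComponent K ∧ K ≤ L} with hA
  have hAL : A ≤ ⁅L, L⁆ := by
    apply sSup_le
    rintro K ⟨hK, hKL⟩
    rw [← FStar.commutator_self hK.2]
    exact commutator_mono hKL hKL
  have hAlay : A ≤ Cfsg.layer X := sSup_le fun K hK => FStar.component_le_layer hK.1
  have hAN : A ≤ normalizer ((L ⊓ Cfsg.fittingSubgroup X : Subgroup X) : Set X) := by
    apply le_normalizer_inf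
    · exact (hAL.trans (commutator_le_self _)).trans le_normalizer
    · rw [normalizer_eq_top]; exact le_top
  obtain ⟨a, ha, n, hn, rfl⟩ := (mem_sup_of_le_normalizer hAN).1 hx
  have hcom : Commute a n := by
    have := FStar.commutator_eq_bot_iff_forall.1 (FStar.layer_commute_fitting (G := X)) a (hAlay ha)
      n (mem_inf.1 hn).2
    exact this
  rw [hcom.mul_pow]
  have h1 : n ^ Nat.card ↥(Cfsg.fittingSubgroup X) = 1 := by
    have := pow_card_eq_one' (x := (⟨n, (mem_inf.1 hn).2⟩ : ↥(Cfsg.fittingSubgroup X)))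
    exact congrArg Subtype.val this
  rw [h1, mul_one]
  exact pow_mem (hAL ha) _

theorem facts_2816 [Fact p.Prime] (hO : Cfsg.pCore p X = ⊥) {Y : Subgroup X} (hY : IsPGroup p ↥Y) :
    (∀ K : Subgroup X, K.IsSubnormal → Y ≤ K → ⁅Cfsg.generalizedFittingSubgroup X, Y⁆ =
      ⁅(Cfsg.generalizedFittingSubgroup ↥K).map K.subtype, Y⁆ ∧
      ⁅(Cfsg.generalizedFittingSubgroup ↥K).map K.subtype, Y⁆ =
      ⁅⁅(Cfsg.generalizedFittingSubgroup ↥K).map K.subtype, Y⁆, Y⁆) ∧
    (∀ Y₀ : Subgroup X, Y₀ ≤ Y → ⁅⁅Cfsg.generalizedFittingSubgroup X, Y⁆, Y₀⁆ = ⊥ → Y₀ = ⊥) := by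
  have hFs : (Cfsg.generalizedFittingSubgroup X).IsSubnormal :=
    Subgroup.Normal.isSubnormal inferInstance
  have hYF : Y ≤ normalizer (Cfsg.generalizedFittingSubgroup X : Set X) := by
    rw [normalizer_eq_top]; exact le_top
  obtain ⟨h1, h2⟩ := split_top hO hY le_rfl hFs hYF
  constructor
  · intro K hK hYK
    have h3 : ⁅Cfsg.generalizedFittingSubgroup X, Y⁆ =
      ⁅(Cfsg.generalizedFittingSubgroup ↥K).map K.subtype, Y⁆ := by
      apply le_antisymm
      · have hW := le_of_commutator_eq hK hYK h2.le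
        have hWF : ⁅Cfsg.generalizedFittingSubgroup X, Y⁆ ≤
          (Cfsg.generalizedFittingSubgroup ↥K).map K.subtype :=
          (le_inf hW (le_normalizer_iff_commutator_le_left.1 hYF)).trans (inf_fstar_le hK)
        rw [h2]
        exact commutator_mono hWF le_rfl
      · exact commutator_mono (FStar.map_generalizedFitting_subtype_le hK) le_rfl
    refine ⟨h3, ?_⟩
    rw [← h3]
    exact h2
  · intro Y₀ hY₀ hc
    apply eq_bot_of_centralizes hO (hY.to_le hY₀)
    rw [commutator_comm, commutator_eq_bot_iff_le_centralizer, le_centralizer_iff]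
    rw [← h1]
    apply sup_le
    · rwa [← commutator_eq_bot_iff_le_centralizer]
    · exact inf_le_right.trans (centralizer_le hY₀)

theorem facts_2817 [Fact p.Prime] (hO : Cfsg.pCore p X = ⊥) (Q : Subgroup X) (hQ : IsPGroup p ↥Q)
    (L : Subgroup X) (hL : L = ⁅Cfsg.generalizedFittingSubgroup X, Q⁆) (F : Subgroup X)
    (hF : F ≤ Cfsg.generalizedFittingSubgroup X ∧
      Cfsg.generalizedFittingSubgroup X ≤ Subgroup.normalizer (F : Set X) ∧
      Q ≤ Subgroup.centralizer (F : Set X) ∧ ∀ N : Subgroup X,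
        N ≤ Cfsg.generalizedFittingSubgroup X →
        Cfsg.generalizedFittingSubgroup X ≤ Subgroup.normalizer (N : Set X) →
        Q ≤ Subgroup.centralizer (N : Set X) → N ≤ F) :
    F = Cfsg.generalizedFittingSubgroup X ⊓ Subgroup.centralizer ((L ⊔ Q : Subgroup X) : Set X) ∧
    ⁅L, Q⁆ = L ∧ L ⊓ F ≤ (frattini ↥L).map L.subtype ∧
    (∀ B : Subgroup X, IsPGroup p ↥B → B ≤ Subgroup.normalizer (Q : Set X) → ⁅L, B⁆ ≤ F →
      ⁅L, B⁆ = ⊥) ∧
    (Nat.card ↥(Subgroup.centralizer ((F ⊔ L : Subgroup X) : Set X))).Coprime p := by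
  set S := Cfsg.generalizedFittingSubgroup X with hS
  obtain ⟨hFS, hSF, hQF, hmax⟩ := hF
  have hSn : S.Normal := inferInstance
  have hSs : S.IsSubnormal := hSn.isSubnormal
  have hnS : ∀ Y : Subgroup X, Y ≤ normalizer (S : Set X) := fun Y => by
    rw [normalizer_eq_top]; exact le_top
  obtain ⟨h1, h2⟩ := split_top hO hQ le_rfl hSs (hnS Q)
  have hLQ : ⁅L, Q⁆ = L := by rw [hL, ← h2]
  have hLS : L ≤ S := by rw [hL]; exact le_normalizer_iff_commutator_le_left.1 (hnS Q)
  have hSL : S ≤ normalizer (L : Set X) := by rw [hL]; exact normalizer_commutator_ge_left _ _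
  have hQL : Q ≤ normalizer (L : Set X) := by rw [hL]; exact normalizer_commutator_ge_right _ _
  have hLs : L.IsSubnormal := isSubnormal_of_le_normalizer hSs hLS hSL
  have hFL : F ≤ centralizer (L : Set X) := by
    rw [← commutator_eq_bot_iff_le_centralizer, commutator_comm, hL]
    -- [S,Q,F] = 1 from [Q,F,S] = 1, [F,S,Q] = 1
    apply commutator_commutator_eq_bot_of_rotate
    · have : ⁅Q, F⁆ = ⊥ := commutator_eq_bot_iff_le_centralizer.2 hQF
      rw [this, commutator_bot_left]
    · have : ⁅F, S⁆ ≤ F := by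
        rw [commutator_comm]; rw [commutator_comm]
        exact le_normalizer_iff_commutator_le_left.1 hSF
      rw [eq_bot_iff]
      have h3 : ⁅F, Q⁆ = ⊥ := by rw [commutator_comm]; exact commutator_eq_bot_iff_le_centralizer.2 hQF
      rw [← h3]
      exact commutator_mono this le_rfl
  have hFeq : F = S ⊓ centralizer ((L ⊔ Q : Subgroup X) : Set X) := by
    apply le_antisymm
    · apply le_inf hFS
      rw [le_centralizer_iff]
      exact sup_le (le_centralizer_iff.1 hFL) hQF
    · apply hmax _ inf_le_left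
      · refine le_trans h1.ge ?_
        apply sup_le
        · rw [← hS, ← hL]
          refine le_trans ?_ (centralizer_le_normalizer _)
          rw [le_centralizer_iff]
          exact inf_le_right.trans (centralizer_le (SetLike.coe_subset_coe.2 le_sup_left))
        · apply le_normalizer_inf (hnS _)
          refine le_trans ?_ (normalizer_le_normalizer_centralizer _)
          apply le_normalizer_sup (inf_le_left.trans hSL)
          exact inf_le_right.trans (centralizer_le_normalizer _)
      · rw [le_centralizer_iff]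
        exact inf_le_right.trans (centralizer_le (SetLike.coe_subset_coe.2 le_sup_right))
  have hLFc : L ⊓ F ≤ ⁅L, L⁆ := by
    intro x hx
    apply mem_commutator_of_fixed hQ hQL hLQ
      (fun x hx => pow_mem_commutator_of_fstar hO hLs hLS hx) (mem_inf.1 hx).1
    exact (le_centralizer_iff.1 hQF) (mem_inf.1 hx).2
  refine ⟨hFeq, hLQ, inf_centralizer_le_Fr hFL hLFc, ?_, ?_⟩
  · intro B hB hBQ hLB
    have hBL : B ≤ normalizer (L : Set X) := by
      rw [hL]; exact le_normalizer_commutator (hnS B) hBQ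
    have h3 : ⁅L, B⁆ ≤ L ⊓ F := le_inf (le_normalizer_iff_commutator_le_left.1 hBL) hLB
    have h4 : ⁅⁅L, L⁆, B⁆ = ⊥ := by
      apply commutator_commutator_eq_bot_of_rotate
      · rw [commutator_eq_bot_iff_le_centralizer]
        exact (h3.trans inf_le_right).trans hFL
      · rw [commutator_comm B L, commutator_eq_bot_iff_le_centralizer]
        exact (h3.trans inf_le_right).trans hFL
    obtain ⟨_, h5⟩ := split_top hO hB hLS hLs hBL
    rw [h5, eq_bot_iff, ← h4]
    exact commutator_mono (h3.trans hLFc) le_rfl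
  · rw [Nat.coprime_comm, (Fact.out : p.Prime).coprime_iff_not_dvd]
    intro hdvd
    obtain ⟨x, hx⟩ := exists_prime_orderOf_dvd_card' p hdvd
    have hxo : orderOf (x : X) = p := by rw [orderOf_coe, hx]
    have hp : IsPGroup p (zpowers (x : X)) := by
      apply IsPGroup.of_card (n := 1)
      rw [Nat.card_zpowers, hxo, pow_one]
    have hPC : zpowers (x : X) ≤ centralizer ((F ⊔ L : Subgroup X) : Set X) := (zpowers_le).2 x.2
    set P₀ := zpowers (x : X) with hP₀
    -- [S, P₀] ≤ D = C_S(L)
    have hC : S ≤ normalizer (centralizer ((F ⊔ L : Subgroup X) : Set X) : Set X) :=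
      (le_normalizer_sup hSF hSL).trans (normalizer_le_normalizer_centralizer _)
    have h3 : ⁅S, P₀⁆ ≤ S ⊓ centralizer (L : Set X) := by
      apply le_inf (le_normalizer_iff_commutator_le_left.1 (hnS _))
      calc ⁅S, P₀⁆ ≤ ⁅S, centralizer ((F ⊔ L : Subgroup X) : Set X)⁆ := commutator_mono le_rfl hPC
        _ ≤ centralizer ((F ⊔ L : Subgroup X) : Set X) := by
            rw [commutator_comm]; exact le_normalizer_iff_commutator_le_left.1 hC
        _ ≤ centralizer (L : Set X) := centralizer_le (SetLike.coe_subset_coe.2 le_sup_right)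
    have hDs : (S ⊓ centralizer (L : Set X)).IsSubnormal := by
      apply isSubnormal_of_le_normalizer hSs inf_le_left
      exact le_normalizer_inf le_normalizer (hSL.trans (normalizer_le_normalizer_centralizer _))
    have hQD : Q ≤ normalizer ((S ⊓ centralizer (L : Set X) : Subgroup X) : Set X) :=
      le_normalizer_inf (hnS Q) (hQL.trans (normalizer_le_normalizer_centralizer _))
    obtain ⟨h4, _⟩ := split_top hO hQ inf_le_left hDs hQD
    have h5 : S ⊓ centralizer (L : Set X) ≤ L ⊔ F := by
      rw [← h4]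
      apply sup_le
      · refine le_trans ?_ le_sup_left
        calc ⁅S ⊓ centralizer (L : Set X), Q⁆ ≤ ⁅S, Q⁆ := commutator_mono inf_le_left le_rfl
          _ = L := hL.symm
      · refine le_trans ?_ le_sup_right
        rw [hFeq]
        refine le_inf (inf_le_left.trans inf_le_left) ?_
        rw [le_centralizer_iff]
        apply sup_le
        · rw [le_centralizer_iff]; exact inf_le_left.trans inf_le_right
        · rw [le_centralizer_iff]; exact inf_le_right
    obtain ⟨_, h6⟩ := split_top hO hp le_rfl hSs (hnS P₀)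
    have h7 : ⁅S, P₀⁆ = ⊥ := by
      rw [h6, eq_bot_iff]
      calc ⁅⁅S, P₀⁆, P₀⁆ ≤ ⁅L ⊔ F, centralizer ((F ⊔ L : Subgroup X) : Set X)⁆ :=
            commutator_mono (h3.trans h5) hPC
        _ = ⊥ := by
            rw [commutator_eq_bot_iff_le_centralizer, le_centralizer_iff, sup_comm]
        _ ≤ ⊥ := le_rfl
    have h8 := eq_bot_of_centralizes hO hp h7
    rw [hP₀, zpowers_eq_bot] at h8
    rw [h8, orderOf_one] at hxo
    exact (Fact.out : p.Prime).one_lt.ne hxo

end

end Cfsg.Agent.H47
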