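import Cfsg.Agent.H47.Mini
import Cfsg.Agent.H47.Basic2

/-!
Groups minimal over a subgroup: the core of the unique maximal overgroup (S2836).
-/

set_option autoImplicit false
open Cfsg Subgroup
open scoped commutatorElement

namespace Cfsg.Agent.H47

variable {G : Type*} [Group G] {p : ℕ} [Finite G] [Fact p.Prime]

theorem min_normal_sylow {L₀ : Subgroup G} (hL₀ : IsCoatom L₀) {T Y : Subgroup G} (hT : SylIn p T L₀)
    (hYT : Y ≤ T) (hmin : IsMinimalOver Y) {N : Subgroup G} (hN : N.Normal) (hNL : N ≤ L₀) :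
    (T ⊓ N).Normal ∧ IsPClosed p N ∧ T ⊓ N = N ⊓ pCore p G ∧ SylIn p (T ⊓ N) N := by
  obtain ⟨hmax, h1, h2, h3, h4, h5⟩ := min_facts hL₀ hT hYT hmin
  have hTN : SylIn p (T ⊓ N) N := h3.inf_normal le_top le_normalizer_of_normal
  have hn : (T ⊓ N).Normal := by
    rw [← normalizer_eq_top_iff]
    by_contra hne
    have h6 : normalizer ((T ⊓ N : Subgroup G) : Set G) ≤ L₀ := by
      apply hmax _ _ hne
      exact hYT.trans (le_normalizer_inf le_normalizer le_normalizer_of_normal)
    apply hL₀.1
    rw [eq_top_iff]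
    intro x hx
    obtain ⟨m, _, hm, n, hn, rfl⟩ := hTN.frattini le_top le_normalizer_of_normal hx
    exact mul_mem (hNL hn) (h6 hm)
  refine ⟨hn, ?_, ?_, hTN⟩
  · rw [isPClosed_iff_syl_normal hTN]; exact le_normalizer_of_normal
  · apply le_antisymm
    · exact le_inf inf_le_right (le_pCore hn (h3.isPGroup.to_le inf_le_left))
    · apply le_inf _ inf_le_left
      rw [← pCoreOf_top]
      exact inf_le_right.trans (pCoreOf_le_sylIn h3)

theorem min_core_le {L₀ : Subgroup G} (hL₀ : IsCoatom L₀) {T Y : Subgroup G} (hT : SylIn p T L₀)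
    (hYT : Y ≤ T) (hmin : IsMinimalOver Y) {M : Subgroup G} (hM : IsCoatom M) (hO : pCore p G ≤ M) :
    L₀.normalCore ≤ M := by
  obtain ⟨hmax, h1, h2, h3, h4, h5⟩ := min_facts hL₀ hT hYT hmin
  set D := L₀.normalCore with hD
  have hDn : D.Normal := normalCore_normal L₀
  have hDL : D ≤ L₀ := normalCore_le L₀
  obtain ⟨hn, _, hTD, hsyl⟩ := min_normal_sylow hL₀ hT hYT hmin hDn hDL
  by_contra hne
  have hs : M ⊔ D = ⊤ := hM.2 _ (lt_of_le_of_ne le_sup_left (fun h => hne (h ▸ le_sup_right)))
  have hidx : ¬ p ∣ M.relIndex ⊤ := by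
    rw [relIndex_of_sup le_normalizer_of_normal hs]
    intro h
    apply hsyl.not_dvd_index
    refine dvd_trans h (relIndex_dvd_of_le_left D (le_inf ?_ inf_le_right))
    rw [hTD]; exact inf_le_right.trans hO
  obtain ⟨S', hS'⟩ := SylIn.exists p M
  have hS'M : SylIn p S' ⊤ := by
    apply sylIn_of_not_dvd_index le_top hS'.isPGroup
    rw [← relIndex_mul_relIndex S' M ⊤ hS'.le le_top]
    intro h
    rcases (Fact.out : p.Prime).dvd_mul.1 h with h | h
    · exact hS'.not_dvd_index h
    · exact hidx h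
  obtain ⟨m, hm, hm'⟩ := hS'M.conj h3
  have hTM : T ≤ M.map (MulAut.conj m).toMonoidHom := by rw [← hm']; exact map_conj_mono hS'.le
  have hne' : M.map (MulAut.conj m).toMonoidHom ≠ ⊤ := by
    intro h
    apply hM.1
    apply map_conj_inj (g := m)
    rw [h, ← MonoidHom.range_eq_map]
    exact (MonoidHom.range_eq_top.2 (MulAut.conj m).surjective).symm
  have h6 := hmax _ (hYT.trans hTM) hne'
  have h7 : M.map (MulAut.conj m).toMonoidHom ⊔ D = ⊤ := by
    have hDm : D.map (MulAut.conj m).toMonoidHom = D :=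
      norm_map_conj (le_normalizer_of_normal (mem_top m) : m ∈ normalizer (D : Set G))
    rw [← hDm, ← Subgroup.map_sup, hs, ← MonoidHom.range_eq_map]
    exact MonoidHom.range_eq_top.2 (MulAut.conj m).surjective
  apply hL₀.1
  rw [eq_top_iff, ← h7]
  exact sup_le h6 hDL

theorem min_core_map {L₀ : Subgroup G} (hL₀ : IsCoatom L₀) {T Y : Subgroup G} (hT : SylIn p T L₀)
    (hYT : Y ≤ T) (hmin : IsMinimalOver Y) [(pCore p G).Normal] :
    L₀.normalCore.map (QuotientGroup.mk' (pCore p G)) = frattini (G ⧸ pCore p G) := by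
  obtain ⟨hmax, h1, h2, h3, h4, h5⟩ := min_facts hL₀ hT hYT hmin
  set π := QuotientGroup.mk' (pCore p G) with hπ
  have hπs : Function.Surjective π := QuotientGroup.mk'_surjective _
  have hker : π.ker = pCore p G := QuotientGroup.ker_mk' _
  apply le_antisymm
  · unfold frattini Order.radical
    apply le_iInf₂
    intro M hM
    rw [map_le_iff_le_comap]
    apply min_core_le hL₀ hT hYT hmin (isCoatom_comap_of_surjective hπs hM)
    refine le_trans hker.ge ?_
    intro x hx
    rw [mem_comap, MonoidHom.mem_ker.1 hx]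
    exact one_mem _
  · have h6 : (frattini (G ⧸ pCore p G)).comap π ≤ L₀.normalCore := by
      have hn : ((frattini (G ⧸ pCore p G)).comap π).Normal := inferInstance
      rw [normal_le_normalCore]
      have h7 : (L₀.map π).comap π = L₀ := by
        rw [comap_map_eq, hker, sup_eq_left.2 h2]
      have h8 : IsCoatom (L₀.map π) := by
        refine ⟨?_, ?_⟩
        · intro h
          rw [h, comap_top] at h7
          exact hL₀.1 h7.symm
        · intro K hK
          have h9 : L₀ < K.comap π := by
            rw [lt_iff_le_and_ne]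
            refine ⟨by rw [← map_le_iff_le_comap]; exact hK.le, ?_⟩
            intro h10
            apply hK.ne
            rw [h10, map_comap_eq_self_of_surjective hπs]
          have h10 := hL₀.2 _ h9
          rw [← map_comap_eq_self_of_surjective hπs K, h10, ← MonoidHom.range_eq_map]
          exact MonoidHom.range_eq_top.2 hπs
      rw [← h7]
      exact comap_mono (frattini_le_coatom h8)
    rw [← map_comap_eq_self_of_surjective hπs (frattini (G ⧸ pCore p G))]
    exact map_mono h6

theorem min_normal_nilpotent {L₀ : Subgroup G} (hL₀ : IsCoatom L₀) {T Y : Subgroup G}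
    (hT : SylIn p T L₀)
    (hYT : Y ≤ T) (hmin : IsMinimalOver Y) {N : Subgroup G} (hN : N.Normal) (hNL : N ≤ L₀)
    [(pCore p N).Normal] :
    Group.IsNilpotent (N ⧸ pCore p N) ∧ (Nat.card (N ⧸ pCore p N)).Coprime p := by
  obtain ⟨hn, hcl, hTN, hsyl⟩ := min_normal_sylow hL₀ hT hYT hmin hN hNL
  have hG := pCore_normal p G
  have hND : N ≤ L₀.normalCore := by rw [normal_le_normalCore]; exact hNL
  have h1 : pCoreOf p N = N ⊓ pCore p G := pCoreOf_eq_inf hN.isSubnormal
  have h2 : pCore p N ≤ (pCore p G).comap N.subtype := by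
    intro x hx
    have : (x : G) ∈ pCoreOf p N := ⟨x, hx, rfl⟩
    rw [h1] at this
    exact (mem_inf.1 this).2
  have hfr := min_core_map hL₀ hT hYT hmin
  let f : N ⧸ pCore p N →* G ⧸ pCore p G := QuotientGroup.map _ _ N.subtype h2
  have hf : ∀ x, f x ∈ frattini (G ⧸ pCore p G) := by
    intro x
    obtain ⟨y, rfl⟩ := QuotientGroup.mk'_surjective _ x
    rw [← hfr]
    exact ⟨y, hND y.2, rfl⟩
  have hinj : Function.Injective f := by
    rw [injective_iff_map_eq_one]
    intro x hx
    obtain ⟨y, rfl⟩ := QuotientGroup.mk'_surjective _ x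
    have h3 : (y : G) ∈ pCore p G := (QuotientGroup.eq_one_iff (y : G)).1 hx
    have h4 : (y : G) ∈ pCoreOf p N := by rw [h1]; exact mem_inf.2 ⟨y.2, h3⟩
    obtain ⟨z, hz, hzy⟩ := h4
    have : z = y := Subtype.ext hzy
    rw [QuotientGroup.mk'_apply, QuotientGroup.eq_one_iff]
    exact this ▸ hz
  refine ⟨?_, ?_⟩
  · have hnil : Group.IsNilpotent (frattini (G ⧸ pCore p G)) := frattini_nilpotent
    let g : N ⧸ pCore p N →* frattini (G ⧸ pCore p G) := f.codRestrict _ hf
    have hg : Function.Injective g := fun a b hab => hinj (congrArg Subtype.val hab)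
    exact Group.nilpotent_of_mulEquiv (MonoidHom.ofInjective hg).symm
  · have h3 := isPClosed_iff_sylIn.1 hcl
    have h4 := h3.not_dvd_index
    rw [Nat.coprime_comm, Nat.Prime.coprime_iff_not_dvd Fact.out]
    intro h5
    apply h4
    have h6 : (pCoreOf p N).relIndex N = (pCore p N).index := by
      unfold relIndex
      congr 1
      ext x
      rw [mem_subgroupOf]
      constructor
      · rintro ⟨z, hz, hzx⟩
        have : z = x := Subtype.ext hzx
        exact this ▸ hz
      · intro hx
        exact ⟨x, hx, rfl⟩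
    rw [h6, index_eq_card]
    exact h5

end Cfsg.Agent.H47
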