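import Cfsg.Agent.H47.Mini2
import Cfsg.Agent.H47.Frat

/-!
S2837.
-/

set_option autoImplicit false
open Cfsg Subgroup
open scoped commutatorElement

namespace Cfsg.Agent.H47

variable {G : Type*} [Group G] {p : ℕ}

theorem mul_pow_mem_commutator {A : Subgroup G} {u w : G} (hu : u ∈ A) (hw : w ∈ A)
    (hup : u ^ p = 1) (hwp : w ^ p = 1) : (u * w) ^ p ∈ ⁅A, A⁆ := by
  have hn : (⁅A, A⁆.subgroupOf A).Normal :=
    normal_subgroupOf_of_le (le_normalizer_commutator le_normalizer le_normalizer)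
  let q := QuotientGroup.mk' (⁅A, A⁆.subgroupOf A)
  have hcomm : Commute (q ⟨u, hu⟩) (q ⟨w, hw⟩) := by
    change q ⟨u, hu⟩ * q ⟨w, hw⟩ = q ⟨w, hw⟩ * q ⟨u, hu⟩
    rw [← commutatorElement_eq_one_iff_mul_comm, ← map_commutatorElement,
      QuotientGroup.mk'_apply, QuotientGroup.eq_one_iff]
    exact commutator_mem_commutator hu hw
  have h3 : q ((⟨u, hu⟩ * ⟨w, hw⟩) ^ p) = 1 := by
    have h1 : (⟨u, hu⟩ : A) ^ p = 1 := Subtype.ext hup
    have h2 : (⟨w, hw⟩ : A) ^ p = 1 := Subtype.ext hwp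
    rw [map_pow, map_mul, hcomm.mul_pow, ← map_pow, ← map_pow, h1, h2, map_one, mul_one]
  rw [QuotientGroup.mk'_apply, QuotientGroup.eq_one_iff] at h3
  exact h3

theorem mem_center_of_sup_eq_top {Y Y' : Subgroup G} (h : Y ⊔ Y' = ⊤) {x : G}
    (h1 : x ∈ centralizer (Y : Set G)) (h2 : x ∈ centralizer (Y' : Set G)) : x ∈ center G := by
  have h3 : (⊤ : Subgroup G) ≤ centralizer ({x} : Set G) := by
    rw [← h]
    apply sup_le
    · intro y hy
      rw [mem_centralizer_singleton_iff]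
      exact (mem_centralizer_iff.1 h1) y hy
    · intro y hy
      rw [mem_centralizer_singleton_iff]
      exact (mem_centralizer_iff.1 h2) y hy
  rw [mem_center_iff]
  intro y
  exact mem_centralizer_singleton_iff.1 (h3 (mem_top y))

theorem min_A_facts [Finite G] [Fact p.Prime] {L₀ Y : Subgroup G} (hL₀ : IsCoatom L₀) (hYL₀ : Y ≤ L₀)
    (hel : IsElementaryAbelian p Y) (hmin : IsMinimalOver Y)
    (hOY : pCore p G ≤ normalizer (Y : Set G)) {A : Subgroup G}
    (hA : A = normalClosure ((pCore p G ⊓ Y : Subgroup G) : Set G)) {g : G} (hg : g ∉ L₀) :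
    Fr A = ⁅A, A⁆ ∧ ⁅A, A⁆ = ⁅A ⊓ Y, A⁆ ∧
      ⁅A ⊓ Y, A⁆ = ⁅A ⊓ Y, A ⊓ Y.map (MulAut.conj g).toMonoidHom⁆ ∧
      ⁅A ⊓ Y, A⁆ ≤ Y ⊓ center G ∧ Y ⊓ Y.map (MulAut.conj g).toMonoidHom = Y ⊓ center G ∧
      (A ⊓ Y) ⊓ (A ⊓ Y.map (MulAut.conj g).toMonoidHom) = Y ⊓ center G ∧
      A ⊓ center G = Y ⊓ center G := by
  obtain ⟨T, hT, hYT⟩ := SylIn.exists_of_le hYL₀ (IsElementaryAbelian.isPGroup' hel)
  obtain ⟨hmax, h1, h2, h3, h4, h5⟩ := min_facts hL₀ hT hYT hmin
  have hgen := h5 g hg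
  set Y' := Y.map (MulAut.conj g).toMonoidHom with hY'
  set Q := pCore p G with hQ
  have hQn : Q.Normal := pCore_normal p G
  have hQp : IsPGroup p Q := pCore_isPGroup p G
  have hYc : Y ≤ centralizer (Y : Set G) := IsElementaryAbelian.le_centralizer hel
  have hY'c : Y' ≤ centralizer (Y' : Set G) := by
    rw [hY', centralizer_map_conj]; exact map_conj_mono hYc
  have hel' : ∀ x ∈ Y', x ^ p = 1 := by
    rintro _ ⟨y, hy, rfl⟩
    rw [← map_pow, (isElementaryAbelian_iff.1 hel).2 y hy, map_one]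
  have hQg : Q.map (MulAut.conj g).toMonoidHom = Q :=
    norm_map_conj (le_normalizer_of_normal (mem_top g) : g ∈ normalizer (Q : Set G))
  have hOY' : Q ≤ normalizer (Y' : Set G) := by
    rw [hY', normalizer_map_conj, ← hQg]; exact map_conj_mono hOY
  have hcg : ∀ x ∈ center G, ∀ K : Subgroup G, x ∈ K ↔ x ∈ K.map (MulAut.conj g).toMonoidHom := by
    intro x hx K
    rw [mem_map_conj]
    have : g⁻¹ * x * g = x := by
      rw [mul_assoc, ← mem_center_iff.1 hx g]; group
    rw [this]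
  -- Y ⊓ Y' = Y ⊓ Z
  have e1 : Y ⊓ Y' = Y ⊓ center G := by
    apply le_antisymm
    · intro x hx
      refine mem_inf.2 ⟨hx.1, mem_center_of_sup_eq_top hgen (hYc hx.1) (hY'c hx.2)⟩
    · intro x hx
      refine mem_inf.2 ⟨hx.1, (hcg x hx.2 Y).1 hx.1⟩
  have hQY : Q ⊓ Y ≤ A := by
    rw [hA]; exact subset_normalClosure
  have hAn : A.Normal := hA ▸ normalClosure_normal
  have hAQ : A ≤ Q := by rw [hA]; exact normalClosure_le_normal (inf_le_left : Q ⊓ Y ≤ Q)
  have hAY : A ⊓ Y = Q ⊓ Y := le_antisymm (inf_le_inf_right _ hAQ) (le_inf hQY inf_le_right)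
  have hAg : A.map (MulAut.conj g).toMonoidHom = A :=
    norm_map_conj (le_normalizer_of_normal (mem_top g) : g ∈ normalizer (A : Set G))
  have hAY' : A ⊓ Y' = Q ⊓ Y' := by
    rw [hY', ← hAg, ← hQg, ← Subgroup.map_inf _ _ _ (MulAut.conj g).injective,
      ← Subgroup.map_inf _ _ _ (MulAut.conj g).injective, hAY]
  -- [Q, Y] ≤ Q ⊓ Y
  have c1 : ⁅Q, Y⁆ ≤ Q ⊓ Y := le_inf (commutator_le_left _ _)
    (le_normalizer_iff_commutator_le_right.1 hOY)
  have c2 : ⁅Q, Y'⁆ ≤ Q ⊓ Y' := le_inf (commutator_le_left _ _)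
    (le_normalizer_iff_commutator_le_right.1 hOY')
  have key : ∀ X : Subgroup G, ∀ B : Subgroup G, B ≤ Q → ⁅Q, X⁆ ≤ B → X ≤ normalizer (B : Set G) := by
    intro X B hB hc
    rw [le_normalizer_iff]
    intro x hx b hb
    have e : x * b * x⁻¹ = ⁅b, x⁆⁻¹ * b := by rw [commutatorElement_def]; group
    rw [e]
    exact mul_mem (inv_mem (hc (commutator_mem_commutator (hB hb) hx))) hb
  have hB : (Q ⊓ Y) ⊔ (Q ⊓ Y') = A := by
    apply le_antisymm (sup_le hQY (by rw [← hAY']; exact inf_le_left))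
    rw [hA]
    have hn : ((Q ⊓ Y) ⊔ (Q ⊓ Y')).Normal := by
      rw [← normalizer_eq_top_iff, eq_top_iff, ← hgen]
      exact sup_le (key Y _ (sup_le inf_le_left inf_le_left) (c1.trans le_sup_left))
        (key Y' _ (sup_le inf_le_left inf_le_left) (c2.trans le_sup_right))
    exact normalClosure_le_normal (le_sup_left : Q ⊓ Y ≤ _)
  set U := A ⊓ Y with hU
  set W := A ⊓ Y' with hW
  have hUW : U ⊔ W = A := by rw [hAY, hAY', hB]
  have hZQ : Y ⊓ center G ≤ Q := by
    have hn : (Y ⊓ center G).Normal := by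
      constructor
      intro x hx k
      have : k * x * k⁻¹ = x := by rw [mem_center_iff.1 hx.2 k]; group
      rw [this]; exact hx
    exact le_pCore hn ((IsElementaryAbelian.isPGroup' hel).to_le inf_le_left)
  have hZA : Y ⊓ center G ≤ A := le_trans (le_inf hZQ inf_le_left) hQY
  have e2 : U ⊓ W = Y ⊓ center G := by
    apply le_antisymm
    · rw [← e1]; exact inf_le_inf inf_le_right inf_le_right
    · apply le_inf (le_inf hZA inf_le_left) (le_inf hZA _)
      rw [← e1]; exact inf_le_right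
  -- commutators
  have c3 : ⁅U, W⁆ ≤ Y ⊓ center G := by
    rw [← e1]
    apply le_inf
    · rw [commutator_comm]
      refine (commutator_mono (inf_le_left.trans hAQ) inf_le_right).trans (c1.trans inf_le_right)
    · refine (commutator_mono (inf_le_left.trans hAQ) inf_le_right).trans (c2.trans inf_le_right)
  set C := ⁅U, W⁆ with hC
  have hCc : C ≤ center G := c3.trans inf_le_right
  have hCn : (⊤ : Subgroup G) ≤ normalizer (C : Set G) := by
    rw [le_normalizer_iff]
    intro k _ x hx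
    have : k * x * k⁻¹ = x := by rw [mem_center_iff.1 (hCc hx) k]; group
    rw [this]; exact hx
  have hUU : U ≤ cmod U C := by
    intro u hu
    refine ⟨hCn trivial, fun v hv => ?_⟩
    rw [commutatorElement_eq_one_iff_mul_comm.2 ((mem_centralizer_iff.1 (hYc hv.2)) u hu.2)]
    exact one_mem _
  have hWW : W ≤ cmod W C := by
    intro u hu
    refine ⟨hCn trivial, fun v hv => ?_⟩
    rw [commutatorElement_eq_one_iff_mul_comm.2 ((mem_centralizer_iff.1 (hY'c hv.2)) u hu.2)]
    exact one_mem _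
  have hWU : W ≤ cmod U C := by
    rw [le_cmod_iff]
    exact ⟨le_top.trans hCn, le_rfl⟩
  have hUW' : U ≤ cmod W C := by
    rw [le_cmod_iff]
    exact ⟨le_top.trans hCn, by rw [commutator_comm]⟩
  have hAU : A ≤ cmod U C := by rw [← hUW]; exact sup_le hUU hWU
  have hAW : A ≤ cmod W C := by rw [← hUW]; exact sup_le hUW' hWW
  have hUnW : U ≤ normalizer (W : Set G) := by
    apply le_normalizer_inf (inf_le_left.trans le_normalizer)
    exact (inf_le_left.trans hAQ).trans hOY'
  have hAA : A ≤ cmod A C := by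
    have := le_cmod_sup hAU hAW hUnW (le_top.trans hCn)
    rwa [hUW] at this
  have c4 : ⁅A, A⁆ ≤ C := commutator_le_of_le_cmod hAA
  have c5 : ⁅U, A⁆ ≤ C := commutator_le_of_le_cmod hAU
  have c6 : C ≤ ⁅U, A⁆ := commutator_mono le_rfl inf_le_left
  have c7 : ⁅U, A⁆ ≤ ⁅A, A⁆ := commutator_mono inf_le_left le_rfl
  refine ⟨?_, le_antisymm (c4.trans c6) c7, le_antisymm c5 c6, c5.trans c3, e1, e2, ?_⟩
  · apply le_antisymm
    · apply frattini_map_le (p := p) (le_normalizer_commutator le_normalizer le_normalizer)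
        (fun a ha b hb => commutator_mem_commutator ha hb)
      intro x hx
      rw [← hUW] at hx
      obtain ⟨u, hu, w, hw, rfl⟩ := (mem_sup_of_le_normalizer hUnW).1 hx
      exact mul_pow_mem_commutator (mem_inf.1 hu).1 (mem_inf.1 hw).1
        ((isElementaryAbelian_iff.1 hel).2 u (mem_inf.1 hu).2) (hel' w (mem_inf.1 hw).2)
    · have hnil : Group.IsNilpotent A := (hQp.to_le hAQ).isNilpotent
      exact commutator_le_Fr_of_isNilpotent hnil
  · apply le_antisymm
    · intro a ha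
      obtain ⟨haA, haZ⟩ := mem_inf.1 ha
      rw [← hUW] at haA
      obtain ⟨u, hu, w, hw, rfl⟩ := (mem_sup_of_le_normalizer hUnW).1 haA
      have h6 : w ∈ center G := by
        apply mem_center_of_sup_eq_top hgen _ (hY'c (mem_inf.1 hw).2)
        rw [mem_centralizer_iff]
        intro y hy
        have h7 : y * (u * w) = u * w * y := mem_center_iff.1 haZ y
        have h8 : y * u = u * y := (mem_centralizer_iff.1 (hYc (mem_inf.1 hu).2)) y hy
        have h9 : u * (y * w) = u * (w * y) := by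
          calc u * (y * w) = (u * y) * w := by group
            _ = y * (u * w) := by rw [← h8]; group
            _ = u * (w * y) := by rw [h7]; group
        exact mul_left_cancel h9
      have h7 : w ∈ Y := (hcg w h6 Y).2 (mem_inf.1 hw).2
      exact mem_inf.2 ⟨mul_mem (mem_inf.1 hu).2 h7, haZ⟩
    · exact le_inf hZA inf_le_right

end Cfsg.Agent.H47
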