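import Mathlib
import Cfsg.Agent.H32.Syl
import Cfsg.Agent.H80.Index2

set_option autoImplicit false

/-! Fusion argument (helper47, for S1915). -/

namespace Cfsg.Agent.H47.OneRank

variable {G : Type*} [Group G] [Finite G]

omit [Finite G] in
theorem isPGroup_zpowers_four {x : G} (h : x ^ 4 = 1) : IsPGroup 2 (Subgroup.zpowers x) := by
  rintro ⟨y, k, rfl⟩
  refine ⟨2, ?_⟩
  apply Subtype.ext
  change (x ^ k) ^ (2 ^ 2) = 1
  rw [← zpow_natCast, ← zpow_mul, mul_comm, zpow_mul, zpow_natCast]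
  change (x ^ 4) ^ k = 1
  rw [h, one_zpow]

theorem fusion (A : Subgroup G) (hA : ∀ H : Subgroup ↥A, H.index ≠ 2) (S C : Subgroup G) (hSA : S ≤ A)
    (hS2 : IsPGroup 2 S) (hidx : ¬ 2 ∣ S.relIndex A) (hCS : C ≤ S) {z y w x : G}
    (hz : z ∈ C) (hzz : z * z = 1) (hz1 : z ≠ 1) (hzS : ∀ s ∈ S, s * z = z * s)
    (uniq : ∀ c ∈ C, c * c = 1 → c = 1 ∨ c = z) (hy : y ∈ C) (hyz : y * y = z)
    (hw : w ∈ S) (hwC : w ∉ C) (hww : w * w = 1) (hxA : ∀ a ∈ A, x * a * x⁻¹ ∈ A)
    (hxw : x * w = w * x) (hxx : x * x = z)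
    (hinv : ∀ s ∈ S, s ∉ C → s * y * s⁻¹ = y⁻¹) (hmul : ∀ s ∈ S, ∀ t ∈ S, s ∉ C → t ∉ C → s * t ∈ C)
    (hcent : ∀ v ∈ S, v ∉ C → ∀ c ∈ C, v * c = c * v → c = 1 ∨ c = z) : False := by
  have : Fact (Nat.Prime 2) := ⟨Nat.prime_two⟩
  have hw1 : w ≠ 1 := fun h => hwC (h ▸ C.one_mem)
  have hwz : w ≠ z := fun h => hwC (h ▸ hz)
  have hwi : w⁻¹ = w := inv_eq_of_mul_eq_one_right hww
  have hzi : z⁻¹ = z := inv_eq_of_mul_eq_one_right hzz
  -- index two
  have hCS2 : C.relIndex S = 2 := by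
    rw [Subgroup.relIndex_eq_two_iff]
    refine ⟨w, hw, fun b hb => ?_⟩
    by_cases hbC : b ∈ C
    · right
      refine ⟨hbC, fun h => hwC ?_⟩
      have := C.mul_mem (C.inv_mem hbC) h
      rwa [inv_mul_cancel_left] at this
    · left
      exact ⟨hmul b hb w hw hbC hwC, hbC⟩
  have hM : (C.subgroupOf A).index % 4 = 2 := by
    have h1 : C.relIndex A = C.relIndex S * S.relIndex A := (Subgroup.relIndex_mul_relIndex C S A hCS hSA).symm
    rw [hCS2] at h1
    change C.relIndex A % 4 = 2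
    rw [h1]
    omega
  have hwA : w ∈ A := hSA hw
  have hzS' : z ∈ S := hCS hz
  have hzA : z ∈ A := hSA hzS'
  have hyA : y ∈ A := hSA (hCS hy)
  obtain ⟨g, hgA, hg⟩ : ∃ g ∈ A, g * w * g⁻¹ = z := by
    by_contra hcon
    push Not at hcon
    have hx2 : orderOf (⟨w, hwA⟩ : A) = 2 := by
      rw [Subgroup.orderOf_mk]
      exact orderOf_eq_prime (by rw [sq, hww]) hw1
    obtain ⟨H, hH, -⟩ := H80.thompson_transfer (C.subgroupOf A) hM ⟨w, hwA⟩ hx2 (fun g hg => by
      rw [Subgroup.mem_subgroupOf] at hg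
      have hg' : (g : G) * w * (g : G)⁻¹ ∈ C := hg
      rcases uniq _ hg' (by
        calc (g : G) * w * (g : G)⁻¹ * ((g : G) * w * (g : G)⁻¹) = (g : G) * (w * w) * (g : G)⁻¹ := by group
          _ = 1 := by rw [hww]; group) with h1 | h1
      · apply hw1
        rwa [mul_inv_eq_one, mul_eq_left] at h1
      · exact hcon g g.2 h1)
    exact hA H hH
  -- t
  obtain ⟨t, htA, htw, htz⟩ : ∃ t ∈ A, t * w * t⁻¹ = z ∧ t * z * t⁻¹ ∈ S := by
    have hSK : S ≤ A ⊓ Subgroup.centralizer {z} := le_inf hSA (fun s hs =>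
      Subgroup.mem_centralizer_singleton_iff.2 (hzS s hs))
    have hidx' : ¬ 2 ∣ S.relIndex (A ⊓ Subgroup.centralizer {z}) := by
      intro h
      apply hidx
      rw [← Subgroup.relIndex_mul_relIndex S (A ⊓ Subgroup.centralizer {z}) A hSK inf_le_left]
      exact Dvd.dvd.mul_right h _
    have hP2 : IsPGroup 2 (Subgroup.zpowers (g * z * g⁻¹)) := by
      apply isPGroup_zpowers_four
      calc (g * z * g⁻¹) ^ 4 = g * ((z * z) * (z * z)) * g⁻¹ := by
            rw [show (4 : ℕ) = 2 + 2 from rfl, pow_add, sq]; group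
        _ = 1 := by rw [hzz]; group
    have hPK : Subgroup.zpowers (g * z * g⁻¹) ≤ A ⊓ Subgroup.centralizer {z} := by
      rw [Subgroup.zpowers_le]
      refine ⟨A.mul_mem (A.mul_mem hgA hzA) (A.inv_mem hgA), Subgroup.mem_centralizer_singleton_iff.2 ?_⟩
      calc g * z * g⁻¹ * z = g * z * g⁻¹ * (g * w * g⁻¹) := by rw [hg]
        _ = g * (z * w) * g⁻¹ := by group
        _ = g * (w * z) * g⁻¹ := by rw [hzS w hw]
        _ = (g * w * g⁻¹) * (g * z * g⁻¹) := by group
        _ = z * (g * z * g⁻¹) := by rw [hg]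
    obtain ⟨h, hh, hh2⟩ := H32.exists_conj_le_of_not_dvd_relIndex (p := 2) hSK hS2 hidx' hPK hP2
    refine ⟨h * g, A.mul_mem hh.1 hgA, ?_, ?_⟩
    · have h1 := Subgroup.mem_centralizer_singleton_iff.1 hh.2
      calc h * g * w * (h * g)⁻¹ = h * (g * w * g⁻¹) * h⁻¹ := by group
        _ = z := by rw [hg, h1, mul_inv_cancel_right]
    · have h1 := hh2 _ (Subgroup.mem_zpowers _)
      rwa [show h * (g * z * g⁻¹) * h⁻¹ = h * g * z * (h * g)⁻¹ by group] at h1
  have hvz : t * z * t⁻¹ ≠ z := by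
    intro h
    rw [← htw] at h
    have h2 : t⁻¹ * (t * (t * w * t⁻¹) * t⁻¹) * t = t⁻¹ * (t * w * t⁻¹) * t := by rw [h]
    have h3 : t * w * t⁻¹ = w := by
      calc t * w * t⁻¹ = t⁻¹ * (t * (t * w * t⁻¹) * t⁻¹) * t := by group
        _ = _ := h2
        _ = w := by group
    exact hwz (by rw [← h3, htw])
  have hvv : (t * z * t⁻¹) * (t * z * t⁻¹) = 1 := by
    calc (t * z * t⁻¹) * (t * z * t⁻¹) = t * (z * z) * t⁻¹ := by group
      _ = 1 := by rw [hzz]; group
  have hv1 : t * z * t⁻¹ ≠ 1 := by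
    intro h
    rw [mul_inv_eq_one, mul_eq_left] at h
    exact hz1 h
  have hvC : t * z * t⁻¹ ∉ C := fun h => by
    rcases uniq _ h hvv with h1 | h1
    · exact hv1 h1
    · exact hvz h1
  have hflip : ∀ s ∈ S, s ∉ C → y * s * y⁻¹ = z * s := by
    intro s hs hsC
    have h1 := hinv s hs hsC
    calc y * s * y⁻¹ = y * (s * y * s⁻¹)⁻¹ * s := by group
      _ = y * y * s := by rw [h1, inv_inv]
      _ = z * s := by rw [hyz]
  have hyv := hflip _ htz hvC
  have hyw := hflip w hw hwC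
  have hyzc : y * z * y⁻¹ = z := by rw [hzS y (hCS hy), mul_inv_cancel_right]
  have hwzc : w * z = z * w := hzS w hw
  -- h
  obtain ⟨h, hhA, hhz, hhw⟩ : ∃ h ∈ A, h * z * h⁻¹ = w ∧ h * w * h⁻¹ = z * w := by
    refine ⟨y * (t⁻¹ * y * t), A.mul_mem hyA (A.mul_mem (A.mul_mem (A.inv_mem htA) hyA) htA), ?_, ?_⟩
    · calc y * (t⁻¹ * y * t) * z * (y * (t⁻¹ * y * t))⁻¹
          = y * (t⁻¹ * (y * (t * z * t⁻¹) * y⁻¹) * t) * y⁻¹ := by group
        _ = y * (t⁻¹ * (t * w * t⁻¹ * (t * z * t⁻¹)) * t) * y⁻¹ := by rw [hyv, htw]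
        _ = (y * w * y⁻¹) * (y * z * y⁻¹) := by group
        _ = z * (w * z) := by rw [hyw, hyzc, mul_assoc]
        _ = w := by rw [hwzc, ← mul_assoc, hzz, one_mul]
    · calc y * (t⁻¹ * y * t) * w * (y * (t⁻¹ * y * t))⁻¹
          = y * (t⁻¹ * (y * (t * w * t⁻¹) * y⁻¹) * t) * y⁻¹ := by group
        _ = y * (t⁻¹ * (t * w * t⁻¹) * t) * y⁻¹ := by rw [htw, hyzc]
        _ = y * w * y⁻¹ := by group
        _ = z * w := hyw
  have hxz : x * z = z * x := by rw [← hxx, mul_assoc]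
  -- the group X
  set AX : Subgroup G := A ⊔ Subgroup.zpowers x with hAX
  have hxN : Subgroup.zpowers x ≤ Subgroup.normalizer (A : Set G) := by
    rw [Subgroup.zpowers_le, Subgroup.mem_normalizer_iff]
    intro a
    constructor
    · exact hxA a
    · intro ha
      have h1 := hxA _ (hxA _ (hxA _ ha))
      have hx4 : x * x * (x * x) = 1 := by rw [hxx, hzz]
      have h2 : x * (x * (x * (x * a * x⁻¹) * x⁻¹) * x⁻¹) * x⁻¹ = (x * x * (x * x)) * a * (x * x * (x * x))⁻¹ := by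
        group
      rw [h2, hx4] at h1
      simpa using h1
  have hAXm : ∀ r ∈ AX, r ∈ A ∨ r * x⁻¹ ∈ A := by
    intro r hr
    rw [hAX, H32.mem_sup_of_le_normalizer hxN] at hr
    obtain ⟨a, ha, k, ⟨m, rfl⟩, rfl⟩ := hr
    change a * x ^ m ∈ A ∨ a * x ^ m * x⁻¹ ∈ A
    rcases Int.even_or_odd' m with ⟨n, rfl | rfl⟩
    · left
      rw [zpow_mul, zpow_two, hxx]
      exact A.mul_mem ha (A.zpow_mem hzA n)
    · right
      rw [zpow_add, zpow_mul, zpow_two, hxx, zpow_one, ← mul_assoc, mul_inv_cancel_right]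
      exact A.mul_mem ha (A.zpow_mem hzA n)
  set X : Subgroup G := AX ⊓ Subgroup.centralizer {z, w} with hX
  have memX : ∀ r, r ∈ X ↔ r ∈ AX ∧ z * r = r * z ∧ w * r = r * w := by
    intro r
    rw [hX, Subgroup.mem_inf, Subgroup.mem_centralizer_iff]
    simp only [Set.mem_insert_iff, Set.mem_singleton_iff, forall_eq_or_imp, forall_eq]
  have hx4 : x ^ 4 = 1 := by
    rw [show (4 : ℕ) = 2 + 2 from rfl, pow_add, sq, hxx, hzz]
  have hw4 : w ^ 4 = 1 := by
    rw [show (4 : ℕ) = 2 + 2 from rfl, pow_add, sq, hww, one_mul]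
  have hxAX : x ∈ AX := (le_sup_right : Subgroup.zpowers x ≤ _) (Subgroup.mem_zpowers x)
  have hAAX : A ≤ AX := le_sup_left
  have hxX : x ∈ X := (memX x).2 ⟨hxAX, hxz.symm, hxw.symm⟩
  have hwX : w ∈ X := (memX w).2 ⟨hAAX hwA, hwzc.symm, rfl⟩
  have hQX : Subgroup.zpowers x ⊔ Subgroup.zpowers w ≤ X :=
    sup_le (Subgroup.zpowers_le.2 hxX) (Subgroup.zpowers_le.2 hwX)
  have hQ2 : IsPGroup 2 ↥(Subgroup.zpowers x ⊔ Subgroup.zpowers w) := by
    apply IsPGroup.to_sup_of_normal_right' (isPGroup_zpowers_four hx4) (isPGroup_zpowers_four hw4)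
    have h1 : Subgroup.zpowers x ≤ Subgroup.centralizer (Subgroup.zpowers w : Set G) := by
      rw [Subgroup.zpowers_le, Subgroup.mem_centralizer_iff]
      rintro _ ⟨k, rfl⟩
      have : Commute w x := hxw.symm
      exact (this.zpow_left k).eq
    exact h1.trans (Subgroup.centralizer_le_normalizer _)
  obtain ⟨R, hQR, hRX, hR2, hRidx⟩ := H32.exists_relSylow (p := 2) hQX hQ2
  have hxR : x ∈ R := hQR ((le_sup_left : Subgroup.zpowers x ≤ _) (Subgroup.mem_zpowers x))
  have hwR : w ∈ R := hQR ((le_sup_right : Subgroup.zpowers w ≤ _) (Subgroup.mem_zpowers w))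
  have hzR : z ∈ R := by rw [← hxx]; exact R.mul_mem hxR hxR
  -- R ∩ A
  have hself : ∀ v ∈ S, v ∉ C → v * v = 1 → ∀ s ∈ S, v * s = s * v → s = 1 ∨ s = z ∨ s = v ∨ s = z * v := by
    intro v hv hvC hvv s hs hvs
    by_cases hsC : s ∈ C
    · rcases hcent v hv hvC s hsC hvs with h1 | h1
      · exact Or.inl h1
      · exact Or.inr (Or.inl h1)
    · have h1 := hmul s hs v hv hsC hvC
      rcases hcent v hv hvC _ h1 (by rw [← mul_assoc, hvs]) with h2 | h2
      · right; right; left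
        rw [eq_inv_of_mul_eq_one_left h2]
        exact inv_eq_of_mul_eq_one_right hvv
      · right; right; right
        rw [← h2, mul_assoc, hvv, mul_one]
  have hRA : ∀ r ∈ R, r ∈ A → r = 1 ∨ r = z ∨ r = w ∨ r = z * w := by
    intro r hrR hrA
    have hp : IsPGroup 2 ↥(R ⊓ A) := hR2.to_le inf_le_left
    obtain ⟨k, hkA, hk⟩ := H32.exists_conj_le_of_not_dvd_relIndex (p := 2) hSA hS2 hidx
      (inf_le_right : R ⊓ A ≤ A) hp
    have hr' := hk r ⟨hrR, hrA⟩
    have hz' := hk z ⟨hzR, hzA⟩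
    have hw' := hk w ⟨hwR, hwA⟩
    have hrX := (memX r).1 (hRX hrR)
    have back : ∀ {u v : G}, k * u * k⁻¹ = k * v * k⁻¹ → u = v := by
      intro u v huv
      rw [mul_left_inj, mul_right_inj] at huv
      exact huv
    have cm : ∀ {u v : G}, u * v = v * u → (k * u * k⁻¹) * (k * v * k⁻¹) = (k * v * k⁻¹) * (k * u * k⁻¹) := by
      intro u v huv
      calc (k * u * k⁻¹) * (k * v * k⁻¹) = k * (u * v) * k⁻¹ := by group
        _ = k * (v * u) * k⁻¹ := by rw [huv]
        _ = _ := by group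
    have sqc : ∀ {u : G}, u * u = 1 → (k * u * k⁻¹) * (k * u * k⁻¹) = 1 := by
      intro u hu
      calc (k * u * k⁻¹) * (k * u * k⁻¹) = k * (u * u) * k⁻¹ := by group
        _ = 1 := by rw [hu]; group
    have one : ∀ {u : G}, k * u * k⁻¹ = 1 → u = 1 := by
      intro u hu
      rwa [mul_inv_eq_one, mul_eq_left] at hu
    by_cases hwC' : k * w * k⁻¹ ∈ C
    · have hkw : k * w * k⁻¹ = z := (uniq _ hwC' (sqc hww)).resolve_left (fun h1 => hw1 (one h1))
      have hzC' : k * z * k⁻¹ ∉ C := fun h1 => by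
        have h2 := (uniq _ h1 (sqc hzz)).resolve_left (fun h1 => hz1 (one h1))
        exact hwz (back (hkw.trans h2.symm))
      rcases hself _ hz' hzC' (sqc hzz) _ hr' (cm hrX.2.1) with h1 | h1 | h1 | h1
      · left; exact one h1
      · right; right; left; exact back (h1.trans hkw.symm)
      · right; left; exact back h1
      · right; right; right
        apply back
        rw [h1]
        calc z * (k * z * k⁻¹) = (k * w * k⁻¹) * (k * z * k⁻¹) := by rw [hkw]
          _ = k * (w * z) * k⁻¹ := by group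
          _ = _ := by rw [hwzc]
    · have h0 := hself _ hw' hwC' (sqc hww) _ hz' (cm hwzc)
      rcases h0 with h1 | h1 | h1 | h1
      · exact absurd (one h1) hz1
      · -- k z k⁻¹ = z
        rcases hself _ hw' hwC' (sqc hww) _ hr' (cm hrX.2.2) with h2 | h2 | h2 | h2
        · left; exact one h2
        · right; left; exact back (h2.trans h1.symm)
        · right; right; left; exact back h2
        · right; right; right
          apply back
          rw [h2]
          calc z * (k * w * k⁻¹) = (k * z * k⁻¹) * (k * w * k⁻¹) := by rw [h1]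
            _ = k * (z * w) * k⁻¹ := by group
      · exact absurd (back h1).symm hwz
      · -- k z k⁻¹ = z * (k w k⁻¹)
        have h3 : z = k * (z * w) * k⁻¹ := by
          calc z = z * (k * w * k⁻¹) * (k * w * k⁻¹)⁻¹ := by group
            _ = k * z * k⁻¹ * (k * w * k⁻¹)⁻¹ := by rw [h1]
            _ = k * (z * w⁻¹) * k⁻¹ := by group
            _ = _ := by rw [hwi]
        rcases hself _ hw' hwC' (sqc hww) _ hr' (cm hrX.2.2) with h2 | h2 | h2 | h2
        · left; exact one h2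
        · right; right; right; exact back (h2.trans h3)
        · right; right; left; exact back h2
        · right; left; exact back (h2.trans h1.symm)
  have hsqR : ∀ r ∈ R, r * r = 1 ∨ r * r = z := by
    intro r hr
    have hsq4 : ∀ v : G, (v = 1 ∨ v = z ∨ v = w ∨ v = z * w) → v * v = 1 := by
      rintro v (rfl | rfl | rfl | rfl)
      · exact one_mul 1
      · exact hzz
      · exact hww
      · calc z * w * (z * w) = z * (w * z) * w := by group
          _ = (z * z) * (w * w) := by rw [hwzc]; group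
          _ = 1 := by rw [hzz, hww, one_mul]
    rcases hAXm r ((memX r).1 (hRX hr)).1 with h1 | h1
    · left; exact hsq4 r (hRA r hr h1)
    · right
      have h2 : r * x⁻¹ ∈ R := R.mul_mem hr (R.inv_mem hxR)
      have h3 := hRA _ h2 h1
      have h4 := hsq4 _ h3
      have h5 : x * (r * x⁻¹) = (r * x⁻¹) * x := by
        rcases h3 with h3 | h3 | h3 | h3
        · rw [h3]; group
        · rw [h3]; exact hxz
        · rw [h3]; exact hxw
        · rw [h3, ← mul_assoc, hxz, mul_assoc, hxw, mul_assoc]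
      calc r * r = (r * x⁻¹) * (x * (r * x⁻¹)) * x := by group
        _ = (r * x⁻¹) * (r * x⁻¹) * (x * x) := by rw [h5]; group
        _ = z := by rw [h4, hxx, one_mul]
  -- the contradiction
  have hcw : h * (z * w) * h⁻¹ = z := by
    calc h * (z * w) * h⁻¹ = (h * z * h⁻¹) * (h * w * h⁻¹) := by group
      _ = w * z * w := by rw [hhz, hhw]; group
      _ = z * (w * w) := by rw [hwzc, mul_assoc]
      _ = z := by rw [hww, mul_one]
  have hx'X : h * x * h⁻¹ ∈ X := by
    rw [memX]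
    refine ⟨AX.mul_mem (AX.mul_mem (hAAX hhA) hxAX) (AX.inv_mem (hAAX hhA)), ?_, ?_⟩
    · have h1 : x * (z * w) = (z * w) * x := by rw [← mul_assoc, hxz, mul_assoc, hxw, mul_assoc]
      calc z * (h * x * h⁻¹) = (h * (z * w) * h⁻¹) * (h * x * h⁻¹) := by rw [hcw]
        _ = h * ((z * w) * x) * h⁻¹ := by group
        _ = h * (x * (z * w)) * h⁻¹ := by rw [h1]
        _ = (h * x * h⁻¹) * (h * (z * w) * h⁻¹) := by group
        _ = (h * x * h⁻¹) * z := by rw [hcw]
    · calc w * (h * x * h⁻¹) = (h * z * h⁻¹) * (h * x * h⁻¹) := by rw [hhz]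
        _ = h * (z * x) * h⁻¹ := by group
        _ = h * (x * z) * h⁻¹ := by rw [hxz]
        _ = (h * x * h⁻¹) * (h * z * h⁻¹) := by group
        _ = (h * x * h⁻¹) * w := by rw [hhz]
  have hp' : IsPGroup 2 (Subgroup.zpowers (h * x * h⁻¹)) := by
    apply isPGroup_zpowers_four
    rw [conj_pow, hx4]; group
  obtain ⟨c, hc, hcR⟩ := H32.exists_conj_le_of_not_dvd_relIndex (p := 2) hRX hR2 hRidx
    (Subgroup.zpowers_le.2 hx'X) hp'
  have h1 := hcR _ (Subgroup.mem_zpowers _)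
  have hcX := (memX c).1 hc
  have h2 : (c * (h * x * h⁻¹) * c⁻¹) * (c * (h * x * h⁻¹) * c⁻¹) = w := by
    calc (c * (h * x * h⁻¹) * c⁻¹) * (c * (h * x * h⁻¹) * c⁻¹) = c * (h * (x * x) * h⁻¹) * c⁻¹ := by group
      _ = c * w * c⁻¹ := by rw [hxx, hhz]
      _ = w := by rw [← hcX.2.2, mul_inv_cancel_right]
  rcases hsqR _ h1 with h3 | h3
  · exact hw1 (h2.symm.trans h3)
  · exact hwz (h2.symm.trans h3)

end Cfsg.Agent.H47.OneRank
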