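import Mathlib
import Cfsg.Agent.Frob.Action
import Cfsg.Agent.H32.Nilp
import Cfsg.Agent.H65.BQuot

set_option autoImplicit false

/-! A 2-group `P` with a normal subgroup `S` containing no `P`-invariant four-group (helper47, for S1915). -/

namespace Cfsg.Agent.H47.OneRank

theorem cyc_of_unique {S : Type*} [CommGroup S] [Finite S] (hS : IsPGroup 2 S) (z : S)
    (h : ∀ s : S, s * s = 1 → s = 1 ∨ s = z) : IsCyclic S := by
  have : Fact (Nat.Prime 2) := ⟨Nat.prime_two⟩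
  apply Frob.isCyclic_of_comm_of_sq
  intro p hp B hB
  have hBp : IsPGroup 2 B := hS.to_subgroup B
  obtain ⟨k, hk⟩ := IsPGroup.iff_card.1 hBp
  have hp2 : p = 2 := by
    have h1 : p ∣ 2 ^ k := by rw [← hk, hB]; exact dvd_mul_right p p
    exact (Nat.prime_dvd_prime_iff_eq hp Nat.prime_two).1 (hp.dvd_of_dvd_pow h1)
  subst hp2
  by_contra hcyc
  have h2 : ∀ b : B, b * b = 1 := by
    intro b
    have h3 : orderOf b ∣ 2 * 2 := by rw [← hB]; exact orderOf_dvd_natCard b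
    have h4 : orderOf b ∣ 2 ^ 2 := by rw [sq]; exact h3
    obtain ⟨j, hj, hj'⟩ := (Nat.dvd_prime_pow Nat.prime_two).1 h4
    interval_cases j
    · rw [pow_zero, orderOf_eq_one_iff] at hj'
      rw [hj', one_mul]
    · rw [pow_one] at hj'
      rw [← sq, ← hj', pow_orderOf_eq_one]
    · exfalso
      apply hcyc
      apply isCyclic_of_orderOf_eq_card b
      rw [hj', hB]; rfl
  have h3 : Nat.card B ≤ 2 := by
    classical
    have h4 : Function.Injective (fun b : B => if b = 1 then (0 : Fin 2) else 1) := by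
      intro b b' hbb
      by_cases hb : b = 1
      · by_cases hb' : b' = 1
        · rw [hb, hb']
        · simp only [hb, if_true, hb', if_false] at hbb
          exact absurd hbb (by decide)
      · by_cases hb' : b' = 1
        · simp only [hb', if_true, hb, if_false] at hbb
          exact absurd hbb (by decide)
        · apply Subtype.ext
          have e1 := (h b.1 (congrArg Subtype.val (h2 b))).resolve_left (fun h => hb (Subtype.ext h))
          have e2 := (h b'.1 (congrArg Subtype.val (h2 b'))).resolve_left (fun h => hb' (Subtype.ext h))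
          rw [e1, e2]
    have h5 := Nat.card_le_card_of_injective _ h4
    rwa [Nat.card_eq_fintype_card (α := Fin 2), Fintype.card_fin] at h5
  rw [hB] at h3
  omega

variable {P : Type*} [Group P] [Finite P]

theorem half (C : Subgroup P) (hC : IsCyclic C) (hcomm : ∀ a ∈ C, ∀ b ∈ C, a * b = b * a) (f : P → P)
    (hf : ∀ c ∈ C, f c ∈ C) (hmul : ∀ a ∈ C, ∀ b ∈ C, f (a * b) = f a * f b)
    (hker : ∀ c ∈ C, f c = 1 ↔ c * c = 1) {d : P} (hd : d ∈ C) (h : ∃ c ∈ C, c * c = d) :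
    ∃ c ∈ C, f c = d := by
  let ψ : ↥C →* ↥C := MonoidHom.mk' (fun c => ⟨f c, hf c c.2⟩) (fun a b => Subtype.ext (hmul a a.2 b b.2))
  let θ : ↥C →* ↥C := MonoidHom.mk' (fun c => c * c) (fun a b => by
    apply Subtype.ext
    have := hcomm a a.2 b b.2
    push_cast
    calc (a : P) * b * (a * b) = a * (b * a) * b := by group
      _ = a * (a * b) * b := by rw [this]
      _ = _ := by group)
  have hk : ψ.ker = θ.ker := by
    ext c
    rw [MonoidHom.mem_ker, MonoidHom.mem_ker, ← Subtype.coe_inj, ← Subtype.coe_inj]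
    exact hker c c.2
  have hcard : Nat.card θ.range = Nat.card ψ.range := by
    rw [← Subgroup.index_ker, ← Subgroup.index_ker, hk]
  have hle : θ.range ≤ ψ.range := Cfsg.Agent.H65.cyclic_le_of_card_dvd hcard.dvd
  obtain ⟨c, hc, rfl⟩ := h
  have : (⟨c * c, hd⟩ : C) ∈ θ.range := ⟨⟨c, hc⟩, rfl⟩
  obtain ⟨e, he⟩ := hle this
  exact ⟨e, e.2, congrArg Subtype.val he⟩

theorem exists_gen (C : Subgroup P) (hC : IsCyclic C) : ∃ γ ∈ C, ∀ c ∈ C, ∃ k : ℕ, γ ^ k = c := by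
  obtain ⟨γ, hγ⟩ := hC.exists_generator
  refine ⟨γ, γ.2, fun c hc => ?_⟩
  obtain ⟨k, hk⟩ := mem_powers_iff_mem_zpowers.2 (hγ ⟨c, hc⟩)
  exact ⟨k, by simpa using congrArg Subtype.val hk⟩

theorem gen_of_not_sq (hP : IsPGroup 2 P) (C : Subgroup P) (hC : IsCyclic C) {d : P} (hd : d ∈ C)
    (hn : ¬ ∃ c ∈ C, c * c = d) : ∀ c ∈ C, c ∈ Subgroup.zpowers d := by
  obtain ⟨γ, hγ, hg⟩ := exists_gen C hC
  obtain ⟨k, hk⟩ := hg d hd
  have hodd : Odd k := by
    rw [← Nat.not_even_iff_odd]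
    rintro ⟨m, rfl⟩
    exact hn ⟨γ ^ m, C.pow_mem hγ m, by rw [← hk, pow_add]⟩
  have hcop : k.Coprime (orderOf γ) := by
    obtain ⟨n, hn⟩ := IsPGroup.iff_orderOf.1 hP γ
    rw [hn]
    exact Nat.Coprime.pow_right _ (Nat.coprime_two_right.2 hodd)
  obtain ⟨m, hm⟩ := exists_pow_eq_self_of_coprime hcop
  intro c hc
  obtain ⟨j, hj⟩ := hg c hc
  rw [← hj, ← hm, hk]
  exact Subgroup.pow_mem _ (Subgroup.pow_mem _ (Subgroup.mem_zpowers d) m) j

theorem sq_of_not_sq (C : Subgroup P) (hC : IsCyclic C) {d e : P} (hd : d ∈ C) (he : e ∈ C)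
    (hnd : ¬ ∃ c ∈ C, c * c = d) (hne : ¬ ∃ c ∈ C, c * c = e) : ∃ c ∈ C, c * c = d * e := by
  obtain ⟨γ, hγ, hg⟩ := exists_gen C hC
  obtain ⟨k, hk⟩ := hg d hd
  obtain ⟨l, hl⟩ := hg e he
  have hk1 : Odd k := by
    rw [← Nat.not_even_iff_odd]
    rintro ⟨m, rfl⟩
    exact hnd ⟨γ ^ m, C.pow_mem hγ m, by rw [← hk, pow_add]⟩
  have hl1 : Odd l := by
    rw [← Nat.not_even_iff_odd]
    rintro ⟨m, rfl⟩
    exact hne ⟨γ ^ m, C.pow_mem hγ m, by rw [← hl, pow_add]⟩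
  obtain ⟨m, hm⟩ := hk1.add_odd hl1
  exact ⟨γ ^ m, C.pow_mem hγ m, by rw [← hk, ← hl, ← pow_add, ← pow_add, hm]⟩

theorem exists_central_mod_sq (hP : IsPGroup 2 P) (C D : Subgroup P) [hCn : C.Normal] [hDn : D.Normal]
    (h : ¬ D ≤ C) : ∃ x ∈ D, x ∉ C ∧ x * x ∈ C ∧ ∀ g : P, g * x * g⁻¹ * x⁻¹ ∈ C := by
  classical
  have : Fact (Nat.Prime 2) := ⟨Nat.prime_two⟩
  have := hP.isNilpotent
  obtain ⟨x, hxD, hxC, hx⟩ := H32.exists_central_mod C D h
  obtain ⟨N, hN⟩ := hP x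
  have hex : ∃ n, x ^ (2 ^ n) ∈ C := ⟨N, by rw [hN]; exact C.one_mem⟩
  have h0 : Nat.find hex ≠ 0 := fun h1 => hxC (by
    have := Nat.find_spec hex; rwa [h1, pow_zero, pow_one] at this)
  obtain ⟨m, hm⟩ := Nat.exists_eq_succ_of_ne_zero h0
  have h1 : x ^ (2 ^ (m + 1)) ∈ C := by have := Nat.find_spec hex; rwa [hm] at this
  have h2 : x ^ (2 ^ m) ∉ C := Nat.find_min hex (by omega)
  refine ⟨x ^ (2 ^ m), D.pow_mem hxD _, h2, ?_, fun g => ?_⟩
  · rwa [← pow_add, ← two_mul, ← pow_succ']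
  · have hc : Commute (QuotientGroup.mk' C g) (QuotientGroup.mk' C x) := by
      have : QuotientGroup.mk' C (g * x * g⁻¹ * x⁻¹) = 1 := (QuotientGroup.eq_one_iff _).2 (hx g)
      rw [map_mul, map_mul, map_mul, map_inv, map_inv, mul_inv_eq_one, mul_inv_eq_iff_eq_mul] at this
      exact this
    have hc2 := hc.pow_right (2 ^ m)
    rw [← QuotientGroup.eq_one_iff]
    change QuotientGroup.mk' C (g * x ^ (2 ^ m) * g⁻¹ * (x ^ (2 ^ m))⁻¹) = 1
    rw [map_mul, map_mul, map_mul, map_inv, map_inv, mul_inv_eq_one, mul_inv_eq_iff_eq_mul, map_pow]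
    exact hc2.eq

/-- `S` contains no `P`-invariant four-group (elementwise). -/
def NoE (S : Subgroup P) : Prop := ∀ z ∈ S, ∀ f ∈ S, z * z = 1 → z ≠ 1 → (∀ g : P, g * z = z * g) →
  f * f = 1 → f ≠ 1 → f ≠ z → (∀ g : P, g * f * g⁻¹ = f ∨ g * f * g⁻¹ = z * f) → False

structure CD (S C : Subgroup P) (z : P) : Prop where
  le : C ≤ S
  nor : ∀ g : P, ∀ c ∈ C, g * c * g⁻¹ ∈ C
  comm : ∀ a ∈ C, ∀ b ∈ C, a * b = b * a
  zC : z ∈ C
  zz : z * z = 1
  z1 : z ≠ 1
  zc : ∀ g : P, g * z = z * g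
  uniq : ∀ c ∈ C, c * c = 1 → c = 1 ∨ c = z
  self : ∀ s ∈ S, (∀ c ∈ C, s * c = c * s) → s ∈ C

omit [Finite P] in
theorem mem_zpowers_invol {z x : P} (hz : z * z = 1) (h : x ∈ Subgroup.zpowers z) : x = 1 ∨ x = z := by
  obtain ⟨k, rfl⟩ := h
  rcases Int.even_or_odd' k with ⟨m, rfl | rfl⟩
  · left
    simp only [zpow_mul, zpow_two, hz, one_zpow]
  · right
    simp only [zpow_add, zpow_mul, zpow_two, hz, one_zpow, one_mul, zpow_one]

theorem exists_CD (hP : IsPGroup 2 P) (S : Subgroup P) [hSn : S.Normal] (hE : NoE S) (hS : S ≠ ⊥) :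
    ∃ C z, CD S C z := by
  classical
  have : Fact (Nat.Prime 2) := ⟨Nat.prime_two⟩
  let 𝒞 : Set (Subgroup P) := {C | C ≤ S ∧ C.Normal ∧ IsMulCommutative C}
  have hne : 𝒞.Nonempty := ⟨⊥, bot_le, inferInstance, inferInstance⟩
  obtain ⟨C, hC⟩ := (Set.toFinite 𝒞).exists_maximal hne
  obtain ⟨hCS, hCn, hCc⟩ := hC.1
  have hself : ∀ s ∈ S, (∀ c ∈ C, s * c = c * s) → s ∈ C := by
    intro s hs hsc
    by_contra hsC
    have hD : ¬ (S ⊓ Subgroup.centralizer (C : Set P)) ≤ C := fun h =>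
      hsC (h ⟨hs, Subgroup.mem_centralizer_iff.2 fun c hc => (hsc c hc).symm⟩)
    obtain ⟨x, hxD, hxC, -, hx⟩ := exists_central_mod_sq hP C (S ⊓ Subgroup.centralizer (C : Set P)) hD
    have hmem : C ⊔ Subgroup.zpowers x ∈ 𝒞 := by
      refine ⟨sup_le hCS (Subgroup.zpowers_le.2 hxD.1), ?_, ?_⟩
      · constructor
        intro n hn g
        have h1 : (C ⊔ Subgroup.zpowers x).map (MulAut.conj g).toMonoidHom ≤ C ⊔ Subgroup.zpowers x := by
          rw [Subgroup.map_sup]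
          refine sup_le ?_ ?_
          · rintro _ ⟨c, hc, rfl⟩
            exact (le_sup_left : C ≤ _) (hCn.conj_mem c hc g)
          · rw [MonoidHom.map_zpowers, Subgroup.zpowers_le]
            have h2 : g * x * g⁻¹ = (g * x * g⁻¹ * x⁻¹) * x := by group
            change g * x * g⁻¹ ∈ _
            rw [h2]
            exact Subgroup.mul_mem _ ((le_sup_left : C ≤ _) (hx g)) ((le_sup_right : Subgroup.zpowers x ≤ _) (Subgroup.mem_zpowers x))
        exact h1 ⟨n, hn, rfl⟩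
      · apply H32.isMulCommutative_sup hCc inferInstance
        rw [Subgroup.le_centralizer_iff, Subgroup.zpowers_le]
        exact hxD.2
    have h3 : C ⊔ Subgroup.zpowers x ≤ C := hC.2 hmem le_sup_left
    exact hxC (h3 ((le_sup_right : Subgroup.zpowers x ≤ _) (Subgroup.mem_zpowers x)))
  have hCne : ¬ C ≤ ⊥ := by
    intro h
    apply hS
    rw [eq_bot_iff]
    intro s hs
    apply h
    apply hself s hs
    intro c hc
    rw [Subgroup.mem_bot.1 (h hc), one_mul, mul_one]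
  obtain ⟨z, hzC, hz1, hzz, hzc⟩ := exists_central_mod_sq hP ⊥ C hCne
  rw [Subgroup.mem_bot] at hz1 hzz
  have hzc' : ∀ g : P, g * z = z * g := by
    intro g
    have := hzc g
    rw [Subgroup.mem_bot, mul_inv_eq_one, mul_inv_eq_iff_eq_mul] at this
    exact this
  have hcomm : ∀ a ∈ C, ∀ b ∈ C, a * b = b * a := fun a ha b hb =>
    congrArg Subtype.val (hCc.is_comm.comm ⟨a, ha⟩ ⟨b, hb⟩)
  refine ⟨C, z, hCS, fun g c hc => hCn.conj_mem c hc g, hcomm, hzC, hzz, hz1, hzc', ?_, hself⟩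
  intro f hf hff
  by_contra hcon
  push Not at hcon
  let D : Subgroup P :=
    { carrier := {c | c ∈ C ∧ c * c = 1}
      one_mem' := ⟨C.one_mem, one_mul 1⟩
      mul_mem' := by
        rintro a b ⟨ha, haa⟩ ⟨hb, hbb⟩
        refine ⟨C.mul_mem ha hb, ?_⟩
        calc a * b * (a * b) = a * (b * a) * b := by group
          _ = (a * a) * (b * b) := by rw [hcomm b hb a ha]; group
          _ = 1 := by rw [haa, hbb, one_mul]
      inv_mem' := by
        rintro a ⟨ha, haa⟩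
        exact ⟨C.inv_mem ha, by rw [← mul_inv_rev, haa, inv_one]⟩ }
  have hDn : D.Normal := by
    constructor
    rintro a ⟨ha, haa⟩ g
    refine ⟨hCn.conj_mem a ha g, ?_⟩
    calc g * a * g⁻¹ * (g * a * g⁻¹) = g * (a * a) * g⁻¹ := by group
      _ = 1 := by rw [haa]; group
  have hZn : (Subgroup.zpowers z).Normal := by
    constructor
    intro a ha g
    rcases mem_zpowers_invol hzz ha with rfl | rfl
    · rw [mul_one, mul_inv_cancel]; exact Subgroup.one_mem _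
    · rw [hzc' g, mul_inv_cancel_right]; exact ha
  have hDZ : ¬ D ≤ Subgroup.zpowers z := by
    intro h
    rcases mem_zpowers_invol hzz (h (show f ∈ D from ⟨hf, hff⟩)) with h1 | h1
    · exact hcon.1 h1
    · exact hcon.2 h1
  obtain ⟨e, heD, heZ, -, he⟩ := exists_central_mod_sq hP (Subgroup.zpowers z) D hDZ
  refine hE z (hCS hzC) e (hCS heD.1) hzz hz1 hzc' heD.2 (fun h => heZ (h ▸ Subgroup.one_mem _))
    (fun h => heZ (h ▸ Subgroup.mem_zpowers _)) (fun g => ?_)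
  rcases mem_zpowers_invol hzz (he g) with h1 | h1
  · left; rwa [mul_inv_eq_one] at h1
  · right; rwa [mul_inv_eq_iff_eq_mul] at h1

namespace CD

variable {S C : Subgroup P} {z : P}

theorem cyclic (h : CD S C z) (hP : IsPGroup 2 P) : IsCyclic C := by
  letI : CommGroup C := { (inferInstance : Group C) with
    mul_comm := fun a b => Subtype.ext (h.comm a a.2 b b.2) }
  refine cyc_of_unique (hP.to_subgroup C) ⟨z, h.zC⟩ (fun s hs => ?_)
  rcases h.uniq s s.2 (congrArg Subtype.val hs) with h1 | h1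
  · left; exact Subtype.ext h1
  · right; exact Subtype.ext h1

theorem exists_root (h : CD S C z) (hP : IsPGroup 2 P) {c : P} (hc : c ∈ C) (hc2 : c * c ≠ 1) :
    ∃ y ∈ Subgroup.zpowers c, y * y = z := by
  classical
  have hex : ∃ n, c ^ (2 ^ n) = 1 := hP c
  have h0 : Nat.find hex ≠ 0 := fun h1 => hc2 (by
    have := Nat.find_spec hex; rw [h1, pow_zero, pow_one] at this; rw [this, one_mul])
  have h1 : Nat.find hex ≠ 1 := fun h1 => hc2 (by
    have := Nat.find_spec hex; rwa [h1, pow_one, sq] at this)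
  obtain ⟨m, hm⟩ : ∃ m, Nat.find hex = m + 2 := ⟨Nat.find hex - 2, by omega⟩
  have h2 : c ^ (2 ^ (m + 2)) = 1 := by have := Nat.find_spec hex; rwa [hm] at this
  have h3 : c ^ (2 ^ (m + 1)) ≠ 1 := Nat.find_min hex (by omega)
  refine ⟨c ^ (2 ^ m), Subgroup.pow_mem _ (Subgroup.mem_zpowers c) _, ?_⟩
  rw [← pow_add, ← two_mul, ← pow_succ']
  refine (h.uniq _ (C.pow_mem hc _) ?_).resolve_left h3
  rw [← pow_add, ← two_mul, ← pow_succ', h2]

theorem mem_zp (h : CD S C z) (hP : IsPGroup 2 P) {y : P} (hy : y ∈ C) (hyz : y * y = z) {c : P}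
    (hc : c ∈ C) (hc2 : c * c ≠ 1) : y ∈ Subgroup.zpowers c := by
  obtain ⟨y', hy', hyz'⟩ := h.exists_root hP hc hc2
  have hy'C : y' ∈ C := (Subgroup.zpowers_le.2 hc) hy'
  have h1 : (y * y'⁻¹) * (y * y'⁻¹) = 1 := by
    have h2 : y'⁻¹ * y = y * y'⁻¹ := h.comm _ (C.inv_mem hy'C) _ hy
    calc (y * y'⁻¹) * (y * y'⁻¹) = y * (y'⁻¹ * y) * y'⁻¹ := by group
      _ = (y * y) * (y' * y')⁻¹ := by rw [h2]; group
      _ = 1 := by rw [hyz, hyz', mul_inv_cancel]
  rcases h.uniq _ (C.mul_mem hy (C.inv_mem hy'C)) h1 with h2 | h2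
  · rw [mul_inv_eq_one] at h2; rw [h2]; exact hy'
  · rw [mul_inv_eq_iff_eq_mul] at h2
    rw [h2, ← hyz']
    exact Subgroup.mul_mem _ (Subgroup.mul_mem _ hy' hy') hy'

theorem conj_y (h : CD S C z) {y : P} (hy : y ∈ C) (hyz : y * y = z) (g : P) :
    g * y * g⁻¹ = y ∨ g * y * g⁻¹ = y⁻¹ := by
  have h0 := h.nor g y hy
  have hcm := h.comm _ h0 _ (C.inv_mem hy)
  have h1 : (g * y * g⁻¹ * y⁻¹) * (g * y * g⁻¹ * y⁻¹) = 1 := by
    calc (g * y * g⁻¹ * y⁻¹) * (g * y * g⁻¹ * y⁻¹)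
        = (g * y * g⁻¹) * (y⁻¹ * (g * y * g⁻¹)) * y⁻¹ := by group
      _ = g * (y * y) * g⁻¹ * (y * y)⁻¹ := by rw [← hcm]; group
      _ = 1 := by rw [hyz, h.zc g, mul_inv_cancel_right, mul_inv_cancel]
  rcases h.uniq _ (C.mul_mem h0 (C.inv_mem hy)) h1 with h2 | h2
  · left; rwa [mul_inv_eq_one] at h2
  · right
    rw [mul_inv_eq_iff_eq_mul] at h2
    rw [h2, eq_inv_iff_mul_eq_one, mul_assoc, hyz, h.zz]

theorem yy1 (h : CD S C z) {y : P} (hyz : y * y = z) : y ≠ y⁻¹ := fun h1 => h.z1 (by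
  rw [← hyz]; nth_rewrite 1 [h1]; exact inv_mul_cancel y)

/-- `g` centralizes `y` and inverts `c`. -/
theorem sq_of_inv (h : CD S C z) (hP : IsPGroup 2 P) {y : P} (hy : y ∈ C) (hyz : y * y = z) {g c : P}
    (hg : g * y * g⁻¹ = y) (hc : c ∈ C) (hgc : g * c * g⁻¹ = c⁻¹) : c * c = 1 := by
  by_contra hcc
  obtain ⟨k, hk⟩ := h.mem_zp hP hy hyz hc hcc
  have hk' : c ^ k = y := hk
  apply h.yy1 hyz
  calc y = g * y * g⁻¹ := hg.symm
    _ = (g * c * g⁻¹) ^ k := by rw [conj_zpow, hk']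
    _ = y⁻¹ := by rw [hgc, inv_zpow, hk']

/-- `g` inverts `y` and centralizes `c`. -/
theorem sq_of_comm (h : CD S C z) (hP : IsPGroup 2 P) {y : P} (hy : y ∈ C) (hyz : y * y = z) {g c : P}
    (hg : g * y * g⁻¹ = y⁻¹) (hc : c ∈ C) (hgc : g * c * g⁻¹ = c) : c * c = 1 := by
  by_contra hcc
  obtain ⟨k, hk⟩ := h.mem_zp hP hy hyz hc hcc
  have hk' : c ^ k = y := hk
  apply h.yy1 hyz
  calc y = (g * c * g⁻¹) ^ k := by rw [hgc, hk']
    _ = g * y * g⁻¹ := by rw [conj_zpow, hk']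
    _ = y⁻¹ := hg

end CD

end Cfsg.Agent.H47.OneRank
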