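import Mathlib
import Cfsg.Agent.H47.OneRankP

set_option autoImplicit false

/-! Structure of the 2-group (helper47, for S1915), second part. -/

namespace Cfsg.Agent.H47.OneRank

variable {P : Type*} [Group P] [Finite P]

namespace CD

variable {S C : Subgroup P} {z : P}

theorem zz_of_sq (h : CD S C z) {c : P} (hc : c ∈ C) (hcc : c * c = 1) (g : P) : g * c * g⁻¹ = c := by
  rcases h.uniq c hc hcc with rfl | rfl
  · group
  · rw [h.zc g, mul_inv_cancel_right]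

theorem cent_y (h : CD S C z) (hP : IsPGroup 2 P) (hSn : S.Normal) (hE : NoE S) {y : P} (hy : y ∈ C)
    (hyz : y * y = z) {s : P} (hs : s ∈ S) (hsy : s * y * s⁻¹ = y) : s ∈ C := by
  by_contra hsC
  let D : Subgroup P := S ⊓ Subgroup.centralizer {y}
  have memD : ∀ t, t ∈ D ↔ t ∈ S ∧ t * y * t⁻¹ = y := by
    intro t
    rw [Subgroup.mem_inf, Subgroup.mem_centralizer_singleton_iff, mul_inv_eq_iff_eq_mul]
  have hDn : D.Normal := by
    constructor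
    intro t ht g
    rw [memD] at ht ⊢
    refine ⟨hSn.conj_mem t ht.1 g, ?_⟩
    have h1 : t * (g⁻¹ * y * g) * t⁻¹ = g⁻¹ * y * g := by
      rcases h.conj_y hy hyz g⁻¹ with h2 | h2
      · rw [inv_inv] at h2; rw [h2]; exact ht.2
      · rw [inv_inv] at h2; rw [h2]
        rw [show t * y⁻¹ * t⁻¹ = (t * y * t⁻¹)⁻¹ by group, ht.2]
    calc g * t * g⁻¹ * y * (g * t * g⁻¹)⁻¹ = g * (t * (g⁻¹ * y * g) * t⁻¹) * g⁻¹ := by group
      _ = y := by rw [h1]; group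
  have hD : ¬ D ≤ C := fun hle => hsC (hle ((memD s).2 ⟨hs, hsy⟩))
  have hCn : C.Normal := ⟨fun n hn g => h.nor g n hn⟩
  obtain ⟨x, hxD, hxC, hxx, hx⟩ := exists_central_mod_sq hP C D hD
  rw [memD] at hxD
  obtain ⟨hxS, hxy⟩ := hxD
  by_cases hsq : ∃ c ∈ C, c * c = x * x
  · obtain ⟨c, hc, hcf⟩ := half C (h.cyclic hP) h.comm (fun c => c * (x * c * x⁻¹))
      (fun c hc => C.mul_mem hc (h.nor x c hc))
      (fun a ha b hb => by
        have h1 := h.comm b hb _ (h.nor x a ha)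
        calc a * b * (x * (a * b) * x⁻¹) = a * (b * (x * a * x⁻¹)) * (x * b * x⁻¹) := by group
          _ = _ := by rw [h1]; group)
      (fun c hc => by
        constructor
        · intro h1
          apply h.sq_of_inv hP hy hyz hxy hc
          exact (eq_inv_of_mul_eq_one_right h1)
        · intro h1
          rw [h.zz_of_sq hc h1 x]; exact h1)
      hxx hsq
    have hbS : c⁻¹ * x ∈ S := S.mul_mem (S.inv_mem (h.le hc)) hxS
    have hbC : c⁻¹ * x ∉ C := fun h1 => hxC (by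
      have := C.mul_mem hc h1
      rwa [mul_inv_cancel_left] at this)
    have hbb : (c⁻¹ * x) * (c⁻¹ * x) = 1 := by
      have h1 := h.comm _ (C.inv_mem hc) _ (C.inv_mem (h.nor x c hc))
      calc (c⁻¹ * x) * (c⁻¹ * x) = c⁻¹ * (x * c * x⁻¹)⁻¹ * (x * x) := by group
        _ = (x * c * x⁻¹)⁻¹ * c⁻¹ * (x * x) := by rw [h1]
        _ = (c * (x * c * x⁻¹))⁻¹ * (x * x) := by group
        _ = 1 := by
          change c * (x * c * x⁻¹) = x * x at hcf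
          rw [hcf, inv_mul_cancel]
    have hby : (c⁻¹ * x) * y * (c⁻¹ * x)⁻¹ = y := by
      calc (c⁻¹ * x) * y * (c⁻¹ * x)⁻¹ = c⁻¹ * (x * y * x⁻¹) * c := by group
        _ = c⁻¹ * (c * y) := by rw [hxy, mul_assoc, h.comm y hy c hc]
        _ = y := by group
    have hbg : ∀ g : P, g * (c⁻¹ * x) * g⁻¹ * (c⁻¹ * x)⁻¹ ∈ C := by
      intro g
      have h1 : g * (c⁻¹ * x) * g⁻¹ * (c⁻¹ * x)⁻¹ = (g * c⁻¹ * g⁻¹) * (g * x * g⁻¹ * x⁻¹) * c := by group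
      rw [h1]
      exact C.mul_mem (C.mul_mem (h.nor g _ (C.inv_mem hc)) (hx g)) hc
    generalize c⁻¹ * x = b at hbS hbC hbb hby hbg
    refine hE z (h.le h.zC) b hbS h.zz h.z1 h.zc hbb (fun h1 => hbC (h1 ▸ C.one_mem))
      (fun h1 => hbC (h1 ▸ h.zC)) (fun g => ?_)
    have hk : b * (g * b * g⁻¹ * b⁻¹) * b⁻¹ = (g * b * g⁻¹ * b⁻¹)⁻¹ := by
      have hbi : b⁻¹ = b := inv_eq_of_mul_eq_one_right hbb
      have hgi : (g * b * g⁻¹)⁻¹ = g * b * g⁻¹ := by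
        calc (g * b * g⁻¹)⁻¹ = g * b⁻¹ * g⁻¹ := by group
          _ = _ := by rw [hbi]
      calc b * (g * b * g⁻¹ * b⁻¹) * b⁻¹ = b * (g * b * g⁻¹) * (b * b)⁻¹ := by group
        _ = b * (g * b * g⁻¹)⁻¹ := by rw [hbb, inv_one, mul_one, hgi]
        _ = (g * b * g⁻¹ * b⁻¹)⁻¹ := by group
    have h2 := h.sq_of_inv hP hy hyz hby (hbg g) hk
    rcases h.uniq _ (hbg g) h2 with h3 | h3
    · left; rwa [mul_inv_eq_one] at h3
    · right; rwa [mul_inv_eq_iff_eq_mul] at h3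
  · have hgen := gen_of_not_sq hP C (h.cyclic hP) hxx hsq
    apply hxC
    apply h.self x hxS
    intro c hc
    obtain ⟨k, hk⟩ := hgen c hc
    have hk' : (x * x) ^ k = c := hk
    have h1 : Commute x (x * x) := (Commute.refl x).mul_right (Commute.refl x)
    rw [← hk']
    exact (h1.zpow_right k).eq

theorem inv_y (h : CD S C z) (hP : IsPGroup 2 P) (hSn : S.Normal) (hE : NoE S) {y : P} (hy : y ∈ C)
    (hyz : y * y = z) {s : P} (hs : s ∈ S) (hsC : s ∉ C) : s * y * s⁻¹ = y⁻¹ :=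
  (h.conj_y hy hyz s).resolve_left (fun h1 => hsC (h.cent_y hP hSn hE hy hyz hs h1))

theorem mul_mem_of_notMem (h : CD S C z) (hP : IsPGroup 2 P) (hSn : S.Normal) (hE : NoE S) {y : P}
    (hy : y ∈ C) (hyz : y * y = z) {s t : P} (hs : s ∈ S) (ht : t ∈ S) (hsC : s ∉ C) (htC : t ∉ C) :
    s * t ∈ C := by
  apply h.cent_y hP hSn hE hy hyz (S.mul_mem hs ht)
  calc s * t * y * (s * t)⁻¹ = s * (t * y * t⁻¹) * s⁻¹ := by group
    _ = (s * y * s⁻¹)⁻¹ := by rw [h.inv_y hP hSn hE hy hyz ht htC]; group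
    _ = y := by rw [h.inv_y hP hSn hE hy hyz hs hsC, inv_inv]

/-- `ψ_g(c) = c * (g c g⁻¹)⁻¹` has range the squares, when `g` inverts `y`. -/
theorem solve (h : CD S C z) (hP : IsPGroup 2 P) {y : P} (hy : y ∈ C) (hyz : y * y = z) {g : P}
    (hg : g * y * g⁻¹ = y⁻¹) {d : P} (hd : d ∈ C) (hsq : ∃ c ∈ C, c * c = d) :
    ∃ c ∈ C, c * (g * c * g⁻¹)⁻¹ = d := by
  refine half C (h.cyclic hP) h.comm (fun c => c * (g * c * g⁻¹)⁻¹)
    (fun c hc => C.mul_mem hc (C.inv_mem (h.nor g c hc))) (fun a ha b hb => ?_) (fun c hc => ?_) hd hsq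
  · have hb' := C.inv_mem (h.nor g b hb)
    have h1 := h.comm (b * (g * b * g⁻¹)⁻¹) (C.mul_mem hb hb') _ (C.inv_mem (h.nor g a ha))
    calc a * b * (g * (a * b) * g⁻¹)⁻¹ = a * ((b * (g * b * g⁻¹)⁻¹) * (g * a * g⁻¹)⁻¹) := by group
      _ = _ := by rw [h1]; group
  · constructor
    · intro h1
      rw [mul_inv_eq_one] at h1
      exact h.sq_of_comm hP hy hyz hg hc h1.symm
    · intro h1
      rw [mul_inv_eq_one, h.zz_of_sq hc h1 g]

end CD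

omit [Finite P] in
theorem pick {U : Subgroup P} (hU2 : ∀ u ∈ U, u * u = 1) {u1 u2 : P} (h1 : u1 ∈ U) (h2 : u2 ∈ U)
    (h10 : u1 ≠ 1) (h20 : u2 ≠ 1) (h12 : u1 ≠ u2) (q : P → Prop)
    (hq : ∀ u ∈ U, ∀ v ∈ U, ¬ q u → ¬ q v → q (u * v)) : ∃ u ∈ U, u ≠ 1 ∧ q u := by
  by_cases hq1 : q u1
  · exact ⟨u1, h1, h10, hq1⟩
  by_cases hq2 : q u2
  · exact ⟨u2, h2, h20, hq2⟩
  refine ⟨u1 * u2, U.mul_mem h1 h2, fun h => h12 ?_, hq u1 h1 u2 h2 hq1 hq2⟩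
  rw [eq_inv_of_mul_eq_one_left h]
  exact inv_eq_of_mul_eq_one_right (hU2 u2 h2)

theorem main (hP : IsPGroup 2 P) (S U : Subgroup P) (hSn : S.Normal)
    (hU2 : ∀ u ∈ U, u * u = 1) {u1 u2 : P} (h1 : u1 ∈ U) (h2 : u2 ∈ U)
    (h10 : u1 ≠ 1) (h20 : u2 ≠ 1) (h12 : u1 ≠ u2)
    (hr : ∀ u ∈ U, u ≠ 1 → ∀ a ∈ S, ∀ b ∈ S, a * a = 1 → a ≠ 1 → b * b = 1 → b ≠ 1 → a ≠ b →
      a * b = b * a → u * a = a * u → u * b = b * u → False)
    {a b : P} (ha : a ∈ S) (hb : b ∈ S) (haa : a * a = 1) (ha1 : a ≠ 1) (hbb : b * b = 1)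
    (hb1 : b ≠ 1) (hab : a ≠ b) (hcab : a * b = b * a) :
    ∃ (C : Subgroup P) (z y w x : P), CD S C z ∧ y ∈ C ∧ y * y = z ∧ w ∈ S ∧ w ∉ C ∧ w * w = 1 ∧
      x * w = w * x ∧ x * x = z ∧ (∀ s ∈ S, s ∉ C → s * y * s⁻¹ = y⁻¹) ∧
      (∀ s ∈ S, ∀ t ∈ S, s ∉ C → t ∉ C → s * t ∈ C) := by
  have hE : NoE S := by
    intro z hz f hf hzz hz1 hzc hff hf1 hfz hg
    obtain ⟨u, hu, hu1, huf⟩ := pick hU2 h1 h2 h10 h20 h12 (fun u => u * f * u⁻¹ = f) (fun u _ v _ hu hv => by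
      have hu' := (hg u).resolve_left hu
      have hv' := (hg v).resolve_left hv
      calc u * v * f * (u * v)⁻¹ = u * (v * f * v⁻¹) * u⁻¹ := by group
        _ = (u * z * u⁻¹) * (u * f * u⁻¹) := by rw [hv']; group
        _ = z * (z * f) := by rw [hu', hzc u, mul_inv_cancel_right]
        _ = f := by rw [← mul_assoc, hzz, one_mul])
    exact hr u hu hu1 z hz f hf hzz hz1 hff hf1 hfz.symm (hzc f).symm (hzc u)
      (mul_inv_eq_iff_eq_mul.1 huf)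
  have hSne : S ≠ ⊥ := fun h => ha1 (by rwa [h, Subgroup.mem_bot] at ha)
  obtain ⟨C, z, hCD⟩ := exists_CD hP S hE hSne
  -- w
  obtain ⟨w, hw, hwC, hww⟩ : ∃ w ∈ S, w ∉ C ∧ w * w = 1 := by
    by_contra hcon
    push Not at hcon
    have e1 : a ∈ C := by by_contra h; exact hcon a ha h haa
    have e2 : b ∈ C := by by_contra h; exact hcon b hb h hbb
    have f1 := (hCD.uniq a e1 haa).resolve_left ha1
    have f2 := (hCD.uniq b e2 hbb).resolve_left hb1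
    exact hab (f1.trans f2.symm)
  -- y
  obtain ⟨y, hy, hyz⟩ : ∃ y ∈ C, y * y = z := by
    by_contra hcon
    apply hwC
    apply hCD.self w hw
    intro c hc
    have hcc : c * c = 1 := by
      by_contra hcc
      obtain ⟨y, hy, hyz⟩ := hCD.exists_root hP hc hcc
      exact hcon ⟨y, (Subgroup.zpowers_le.2 hc) hy, hyz⟩
    exact mul_inv_eq_iff_eq_mul.1 (hCD.zz_of_sq hc hcc w)
  have hinv : ∀ s ∈ S, s ∉ C → s * y * s⁻¹ = y⁻¹ := fun s hs hsC => hCD.inv_y hP hSn hE hy hyz hs hsC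
  have hmul : ∀ s ∈ S, ∀ t ∈ S, s ∉ C → t ∉ C → s * t ∈ C := fun s hs t ht hsC htC =>
    hCD.mul_mem_of_notMem hP hSn hE hy hyz hs ht hsC htC
  have hwy := hinv w hw hwC
  have hwi : w⁻¹ = w := inv_eq_of_mul_eq_one_right hww
  have hw1 : w ≠ 1 := fun h => hwC (h ▸ C.one_mem)
  have hwz : w ≠ z := fun h => hwC (h ▸ hCD.zC)
  have hδ : ∀ v : P, v * w * v⁻¹ * w⁻¹ ∈ C := by
    intro v
    rw [hwi]
    apply hmul _ (hSn.conj_mem w hw v) w hw _ hwC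
    intro h
    apply hwC
    have := hCD.nor v⁻¹ _ h
    rwa [show v⁻¹ * (v * w * v⁻¹) * v⁻¹⁻¹ = w by group] at this
  -- main claim: a nontrivial u in K ∩ U_0
  suffices hx : ∃ x : P, x * w = w * x ∧ x * x = z by
    obtain ⟨x, hxw, hxx⟩ := hx
    exact ⟨C, z, y, w, x, hCD, hy, hyz, hw, hwC, hww, hxw, hxx, hinv, hmul⟩
  by_cases hcase : ∃ u ∈ U, u ≠ 1 ∧ u * y * u⁻¹ = y ∧ ∃ c ∈ C, c * c = u * w * u⁻¹ * w⁻¹
  · obtain ⟨u, hu, hu1, huy, husq⟩ := hcase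
    obtain ⟨c, hc, hce⟩ := hCD.solve hP hy hyz hwy (hδ u) husq
    -- c * (w c w⁻¹)⁻¹ = u w u⁻¹ w⁻¹
    have hxw : (c⁻¹ * u) * w = w * (c⁻¹ * u) := by
      have h3 : c * w * c⁻¹ = u * w * u⁻¹ := by
        calc c * w * c⁻¹ = c * (w * c * w⁻¹)⁻¹ * w := by group
          _ = _ := by rw [hce]; group
      calc (c⁻¹ * u) * w = c⁻¹ * (u * w * u⁻¹) * u := by group
        _ = _ := by rw [← h3]; group
    have huu := hU2 u hu
    have hui : u⁻¹ = u := inv_eq_of_mul_eq_one_right huu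
    have hxx : (c⁻¹ * u) * (c⁻¹ * u) = c⁻¹ * (u * c * u⁻¹)⁻¹ := by
      calc (c⁻¹ * u) * (c⁻¹ * u) = c⁻¹ * (u * c * u⁻¹)⁻¹ * (u * u) := by group
        _ = _ := by rw [huu, mul_one]
    have hxxC : (c⁻¹ * u) * (c⁻¹ * u) ∈ C := by
      rw [hxx]; exact C.mul_mem (C.inv_mem hc) (C.inv_mem (hCD.nor u c hc))
    have hxxw : w * ((c⁻¹ * u) * (c⁻¹ * u)) * w⁻¹ = (c⁻¹ * u) * (c⁻¹ * u) := by
      rw [mul_inv_eq_iff_eq_mul]
      generalize c⁻¹ * u = x at hxw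
      rw [← mul_assoc, ← hxw, mul_assoc, ← hxw, ← mul_assoc]
    have h4 := hCD.sq_of_comm hP hy hyz hwy hxxC hxxw
    rcases hCD.uniq _ hxxC h4 with h5 | h5
    · exfalso
      rw [hxx] at h5
      have h6 : u * c * u⁻¹ = c⁻¹ := by
        rw [mul_inv_eq_one] at h5; exact h5.symm
      have h7 := hCD.sq_of_inv hP hy hyz huy hc h6
      have h8 : u * w = w * u := by
        have h9 := hCD.uniq c hc h7
        have h10 : ∀ g : P, g * c = c * g := fun g => mul_inv_eq_iff_eq_mul.1 (hCD.zz_of_sq hc h7 g)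
        calc u * w = c * ((c⁻¹ * u) * w) := by group
          _ = c * w * (c⁻¹ * u) := by rw [hxw]; group
          _ = w * c * (c⁻¹ * u) := by rw [← h10 w]
          _ = w * u := by group
      exact hr u hu hu1 z (hCD.le hCD.zC) w hw hCD.zz hCD.z1 hww hw1 hwz.symm (hCD.zc w).symm (hCD.zc u) h8
    · exact ⟨c⁻¹ * u, hxw, h5⟩
  · exfalso
    push Not at hcase
    obtain ⟨u, hu, hu1, huy⟩ := pick hU2 h1 h2 h10 h20 h12 (fun u => u * y * u⁻¹ = y) (fun u _ v _ hu hv => by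
      have hu' := (hCD.conj_y hy hyz u).resolve_left hu
      have hv' := (hCD.conj_y hy hyz v).resolve_left hv
      calc u * v * y * (u * v)⁻¹ = u * (v * y * v⁻¹) * u⁻¹ := by group
        _ = (u * y * u⁻¹)⁻¹ := by rw [hv']; group
        _ = y := by rw [hu', inv_inv])
    have hcyc := hCD.cyclic hP
    obtain ⟨v, hv, hv1, hvsq⟩ := pick hU2 h1 h2 h10 h20 h12 (fun v => ∃ c ∈ C, c * c = v * w * v⁻¹ * w⁻¹)
      (fun u _ v _ hu hv => by
        have h3 : u * v * w * (u * v)⁻¹ * w⁻¹ = (u * (v * w * v⁻¹ * w⁻¹) * u⁻¹) * (u * w * u⁻¹ * w⁻¹) := by group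
        rw [h3]
        apply sq_of_not_sq C hcyc (hCD.nor u _ (hδ v)) (hδ u) _ hu
        rintro ⟨c, hc, hcc⟩
        apply hv
        refine ⟨u⁻¹ * c * u, ?_, ?_⟩
        · have := hCD.nor u⁻¹ c hc
          rwa [inv_inv] at this
        · calc u⁻¹ * c * u * (u⁻¹ * c * u) = u⁻¹ * (c * c) * u := by group
            _ = _ := by rw [hcc]; group)
    obtain ⟨c0, hc0, hc0v⟩ := hvsq
    have hvy : v * y * v⁻¹ = y⁻¹ := (hCD.conj_y hy hyz v).resolve_left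
      (fun h => hcase v hv hv1 h c0 hc0 hc0v)
    have hun : ¬ ∃ c ∈ C, c * c = u * w * u⁻¹ * w⁻¹ := by
      rintro ⟨c, hc, hcc⟩
      exact hcase u hu hu1 huy c hc hcc
    -- w inverts C
    have hgen := gen_of_not_sq hP C hcyc (hδ u) hun
    have hwinv0 : w * (u * w * u⁻¹ * w⁻¹) * w⁻¹ = (u * w * u⁻¹ * w⁻¹)⁻¹ := by
      have hgi : (u * w * u⁻¹)⁻¹ = u * w * u⁻¹ := by
        calc (u * w * u⁻¹)⁻¹ = u * w⁻¹ * u⁻¹ := by group
          _ = _ := by rw [hwi]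
      calc w * (u * w * u⁻¹ * w⁻¹) * w⁻¹ = w * (u * w * u⁻¹) * (w * w)⁻¹ := by group
        _ = w * (u * w * u⁻¹)⁻¹ := by rw [hww, inv_one, mul_one, hgi]
        _ = (u * w * u⁻¹ * w⁻¹)⁻¹ := by group
    have hwinv : ∀ c ∈ C, w * c * w⁻¹ = c⁻¹ := by
      intro c hc
      obtain ⟨k, hk⟩ := hgen c hc
      have hk' : (u * w * u⁻¹ * w⁻¹) ^ k = c := hk
      rw [← hk', ← conj_zpow, hwinv0, inv_zpow]
    obtain ⟨c, hc, hce⟩ := hCD.solve hP hy hyz hvy (hδ v) ⟨c0, hc0, hc0v⟩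
    -- c * (v c v⁻¹)⁻¹ = v w v⁻¹ w⁻¹
    have hcwC : c * w ∉ C := fun h => hwC (by
      have := C.mul_mem (C.inv_mem hc) h
      rwa [inv_mul_cancel_left] at this)
    have hcw2 : (c * w) * (c * w) = 1 := by
      calc (c * w) * (c * w) = c * (w * c * w⁻¹) * (w * w) := by group
        _ = 1 := by rw [hwinv c hc, mul_inv_cancel, hww, one_mul]
    have hcwv : v * (c * w) = (c * w) * v := by
      rw [← mul_inv_eq_iff_eq_mul]
      calc v * (c * w) * v⁻¹ = (v * c * v⁻¹) * (v * w * v⁻¹ * w⁻¹) * w := by group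
        _ = (v * c * v⁻¹) * (c * (v * c * v⁻¹)⁻¹) * w := by rw [← hce]
        _ = ((v * c * v⁻¹) * c) * (v * c * v⁻¹)⁻¹ * w := by group
        _ = (c * (v * c * v⁻¹)) * (v * c * v⁻¹)⁻¹ * w := by rw [hCD.comm _ (hCD.nor v c hc) c hc]
        _ = c * w := by group
    exact hr v hv hv1 z (hCD.le hCD.zC) (c * w) (S.mul_mem (hCD.le hc) hw) hCD.zz hCD.z1 hcw2
      (fun h => hcwC (h ▸ C.one_mem)) (fun h => hcwC (h ▸ hCD.zC)) (hCD.zc _).symm (hCD.zc v) hcwv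

end Cfsg.Agent.H47.OneRank
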