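import Cfsg.Agent.H47.SylJoin
import Cfsg.Agent.H47.Trace
import Cfsg.Agent.H47.McB
import Cfsg.Agent.H47.Basic2
import Cfsg.Agent.FStar.PComp

/-!
Kieler's lemma in groups of local characteristic `p`, point stabilizers of joins (S2806).
-/

set_option autoImplicit false
open Cfsg Subgroup
open scoped commutatorElement

namespace Cfsg.Agent.H47

variable {G : Type*} [Group G] [Finite G] {p : ℕ} [Fact p.Prime]

/-- local characteristic `p`, relative version -/
def LocP (p : ℕ) (K : Subgroup G) : Prop :=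
  ∀ R ≤ K, IsPGroup p R → R ≠ ⊥ → CharP' p (K ⊓ normalizer (R : Set G))

theorem LocP.of_normal {K L : Subgroup G} (hK : LocP p K) (hLK : L ≤ K)
    (hn : K ≤ normalizer (L : Set G)) : LocP p L := by
  intro R hR hRp hR1
  apply (hK R (hR.trans hLK) hRp hR1).of_normal (inf_le_inf_right _ hLK)
  exact le_normalizer_inf (inf_le_left.trans hn) (inf_le_right.trans le_normalizer)

theorem kieler_loc_normal {T K L : Subgroup G} (hK : LocP p K) (hT : SylIn p T K) (hLK : L ≤ K)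
    (hn : K ≤ normalizer (L : Set G)) (hTL : T ⊓ L ≠ ⊥) :
    L ⊓ centralizer (Z1 p T : Set G) = L ⊓ centralizer (Z1 p (T ⊓ L) : Set G) := by
  have hTp := hT.isPGroup
  obtain ⟨Z₀, hZ₀⟩ : ∃ Z₀, Z₀ = Z1 p T ⊓ L := ⟨_, rfl⟩
  have hZ₀1 : Z₀ ≠ ⊥ := by
    have hn' : T ≤ normalizer ((T ⊓ L : Subgroup G) : Set G) :=
      le_normalizer_inf le_normalizer (hT.le.trans hn)
    have h1 := inf_centralizer_ne_bot (hTp.to_le inf_le_left : IsPGroup p ↥(T ⊓ L)) hTL hTp hn'
    obtain ⟨Y, hY⟩ : ∃ Y, Y = T ⊓ L ⊓ centralizer (T : Set G) := ⟨_, rfl⟩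
    rw [← hY] at h1
    have hYp : IsPGroup p Y := hTp.to_le (by rw [hY]; exact inf_le_left.trans inf_le_left)
    have hdvd : p ∣ Nat.card Y := by
      have : Nontrivial Y := (Subgroup.nontrivial_iff_ne_bot Y).2 h1
      obtain ⟨n, hn0, hn⟩ := hYp.nontrivial_iff_card.1 this
      rw [hn]
      exact dvd_pow_self p hn0.ne'
    obtain ⟨x, hx⟩ := exists_prime_orderOf_dvd_card' p hdvd
    intro hbot
    have hxY : (x : G) ∈ T ⊓ L ⊓ centralizer (T : Set G) := by rw [← hY]; exact x.2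
    have h2 : (x : G) ∈ Z₀ := by
      rw [hZ₀]
      refine mem_inf.2 ⟨mem_Z1_iff.2 ⟨(mem_inf.1 (mem_inf.1 hxY).1).1, (mem_inf.1 hxY).2, ?_⟩,
        (mem_inf.1 (mem_inf.1 hxY).1).2⟩
      rw [← hx, ← orderOf_coe, pow_orderOf_eq_one]
    rw [hbot, mem_bot] at h2
    have h3 : x = 1 := Subtype.ext h2
    rw [h3, orderOf_one] at hx
    exact (Fact.out : p.Prime).one_lt.ne hx
  have hZT : Z₀ ≤ Z1 p T := by rw [hZ₀]; exact inf_le_left
  have hZK : Z₀ ≤ K := hZT.trans ((Z1_le T).trans hT.le)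
  have hZp : IsPGroup p Z₀ := hTp.to_le (hZT.trans (Z1_le T))
  obtain ⟨N, hN⟩ : ∃ N, N = K ⊓ normalizer (Z₀ : Set G) := ⟨_, rfl⟩
  have hNc : CharP' p N := by rw [hN]; exact hK Z₀ hZK hZp hZ₀1
  have hcent : centralizer (Z₀ : Set G) ≤ normalizer (Z₀ : Set G) := centralizer_le_normalizer _
  have hTN : T ≤ N := by
    rw [hN]
    exact le_inf hT.le (((le_centralizer_Z1 T).trans (centralizer_anti hZT)).trans hcent)
  have hNK : N ≤ K := by rw [hN]; exact inf_le_left
  have hTsylN : SylIn p T N := hT.of_le hTN hNK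
  have h1 := kieler_normal hNc hTsylN (inf_le_right : L ⊓ N ≤ N)
    (le_normalizer_inf (hNK.trans hn) le_normalizer)
  have h2 : T ⊓ (L ⊓ N) = T ⊓ L := by
    rw [← inf_assoc]
    exact inf_eq_left.2 (inf_le_left.trans hTN)
  rw [h2] at h1
  have hZTL : Z₀ ≤ Z1 p (T ⊓ L) := by
    apply le_Z1
    · exact le_inf (hZT.trans (Z1_le T)) (by rw [hZ₀]; exact inf_le_right)
    · exact (hZT.trans (Z1_le_centralizer T)).trans (centralizer_anti inf_le_left)
    · exact IsElementaryAbelian.of_le (Z1_el T) hZT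
  have h3 : L ⊓ centralizer (Z1 p T : Set G) ≤ N := by
    rw [hN]
    exact le_inf (inf_le_left.trans hLK) ((inf_le_right.trans (centralizer_anti hZT)).trans hcent)
  have h4 : L ⊓ centralizer (Z1 p (T ⊓ L) : Set G) ≤ N := by
    rw [hN]
    exact le_inf (inf_le_left.trans hLK) ((inf_le_right.trans (centralizer_anti hZTL)).trans hcent)
  apply le_antisymm
  · apply le_inf inf_le_left
    refine le_trans ?_ inf_le_right (b := L ⊓ N ⊓ centralizer (Z1 p (T ⊓ L) : Set G))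
    rw [← h1]
    exact le_inf (le_inf inf_le_left h3) inf_le_right
  · apply le_inf inf_le_left
    refine le_trans ?_ inf_le_right (b := L ⊓ N ⊓ centralizer (Z1 p T : Set G))
    rw [h1]
    exact le_inf (le_inf inf_le_left h4) inf_le_right

theorem kieler_loc {T L : Subgroup G} (hG : LocP p (⊤ : Subgroup G)) (hT : SylIn p T ⊤)
    (hL : L.IsSubnormal) : LocP p L ∧ (T ⊓ L ≠ ⊥ →
    L ⊓ centralizer (Z1 p T : Set G) = L ⊓ centralizer (Z1 p (T ⊓ L) : Set G)) := by
  induction hL with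
  | top => exact ⟨hG, fun _ => by rw [inf_top_eq]⟩
  | step H K hle hS hN ih =>
    have hKH := step_le_normalizer hle hN
    obtain ⟨ih1, ih2⟩ := ih
    refine ⟨ih1.of_normal hle hKH, fun hTH => ?_⟩
    have hTK : T ⊓ K ≠ ⊥ := fun h => hTH (by
      rw [eq_bot_iff, ← h]; exact inf_le_inf_left _ hle)
    have h0 : T ⊓ K ⊓ H = T ⊓ H := by rw [inf_assoc, inf_eq_right.2 hle]
    have h1 := kieler_loc_normal ih1 (hT.inf_subnormal hS) hle hKH (by rwa [h0])
    rw [h0] at h1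
    rw [← h1]
    calc H ⊓ centralizer (Z1 p T : Set G) = H ⊓ (K ⊓ centralizer (Z1 p T : Set G)) := by
          rw [← inf_assoc, inf_eq_left.2 hle]
      _ = H ⊓ (K ⊓ centralizer (Z1 p (T ⊓ K) : Set G)) := by rw [ih2 hTK]
      _ = _ := by rw [← inf_assoc, inf_eq_left.2 hle]

omit [Finite G] [Fact p.Prime] in
theorem pElementClosure_mono {L K : Subgroup G} (h : L ≤ K) :
    pElementClosure p L ≤ pElementClosure p K :=
  Subgroup.closure_mono fun _ hx => ⟨h hx.1, hx.2⟩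

theorem point_eq {T L : Subgroup G} (hG : LocP p (⊤ : Subgroup G)) (hT : SylIn p T ⊤)
    (hL : L.IsSubnormal) : pElementClosure p (L ⊓ centralizer (Z1 p (T ⊓ L) : Set G)) =
      pElementClosure p (L ⊓ centralizer (Z1 p T : Set G)) := by
  by_cases hTL : T ⊓ L = ⊥
  · have h1 : pElementClosure p L ≤ ⊥ := by
      apply pElementClosure_le_of_syl (hT.inf_subnormal hL) hTL.le
      rw [normalizer_eq_top]; exact le_top
    have h2 : ∀ X : Subgroup G, X ≤ L → pElementClosure p X = ⊥ := fun X hX =>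
      le_bot_iff.1 ((pElementClosure_mono hX).trans h1)
    rw [h2 _ inf_le_left, h2 _ inf_le_left]
  · rw [(kieler_loc hG hT hL).2 hTL]

theorem pElementClosure_join {T L₁ L₂ C : Subgroup G} (hT : SylIn p T ⊤) (hTC : T ≤ C)
    (h₁ : L₁.IsSubnormal) (h₂ : L₂.IsSubnormal) :
    pElementClosure p ((L₁ ⊔ L₂) ⊓ C) = pElementClosure p (L₁ ⊓ C) ⊔ pElementClosure p (L₂ ⊓ C) := by
  apply le_antisymm _ (sup_le (pElementClosure_mono (inf_le_inf_right _ le_sup_left))
    (pElementClosure_mono (inf_le_inf_right _ le_sup_right)))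
  obtain ⟨D, hD⟩ : ∃ D, D = (L₁ ⊔ L₂) ⊓ C := ⟨_, rfl⟩
  rw [← hD]
  obtain ⟨K, hK⟩ : ∃ K, K = pElementClosure p (L₁ ⊓ C) ⊔ pElementClosure p (L₂ ⊓ C) := ⟨_, rfl⟩
  rw [← hK]
  have hsub : ∀ X : Subgroup G, X.IsSubnormal → X ≤ L₁ ⊔ L₂ →
      ((pElementClosure p (X ⊓ C)).subgroupOf D).IsSubnormal := by
    intro X hX hXL
    apply isSubnormal_of_le_normalizer (hX.subgroupOf (K := D))
    · exact comap_mono ((pElementClosure_le _).trans inf_le_left)
    · have h1 : X ⊓ D ≤ normalizer (pElementClosure p (X ⊓ C) : Set G) := by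
        have h2 : X ⊓ D ≤ X ⊓ C := by rw [hD]; exact inf_le_inf_left _ inf_le_right
        exact h2.trans (le_normalizer_pElementClosure le_normalizer)
      intro x hx
      rw [mem_subgroupOf] at hx
      have h3 := h1 (mem_inf.2 ⟨hx, x.2⟩)
      rw [mem_normalizer_iff] at h3 ⊢
      intro z
      have := h3 (z : G)
      simpa [mem_subgroupOf] using this
  have hKD : K ≤ D := by
    rw [hK, hD]
    exact sup_le ((pElementClosure_le _).trans (inf_le_inf_right _ le_sup_left))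
      ((pElementClosure_le _).trans (inf_le_inf_right _ le_sup_right))
  have hKs : (K.subgroupOf D).IsSubnormal := by
    have h3 : pElementClosure p (L₁ ⊓ C) ≤ D := le_trans (by rw [hK]; exact le_sup_left) hKD
    have h4 : pElementClosure p (L₂ ⊓ C) ≤ D := le_trans (by rw [hK]; exact le_sup_right) hKD
    rw [hK, subgroupOf_sup h3 h4]
    exact H62.isSubnormal_sup (hsub L₁ h₁ le_sup_left) (hsub L₂ h₂ le_sup_right)
  have hLs : (L₁ ⊔ L₂).IsSubnormal := H62.isSubnormal_sup h₁ h₂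
  have hTD : SylIn p (T ⊓ (L₁ ⊔ L₂)) D := by
    apply (hT.inf_subnormal hLs).of_le
    · rw [hD]; exact le_inf inf_le_right (inf_le_left.trans hTC)
    · rw [hD]; exact inf_le_left
  have hTK : T ⊓ (L₁ ⊔ L₂) ≤ K := by
    rw [syl_join h₁ h₂ hT, hK]
    have h5 : ∀ X : Subgroup G, T ⊓ X ≤ pElementClosure p (X ⊓ C) := fun X =>
      le_pElementClosure (le_inf inf_le_right (inf_le_left.trans hTC)) (hT.isPGroup.to_le inf_le_left)
    exact sup_le_sup (h5 L₁) (h5 L₂)
  have hidx : (K.subgroupOf D).index.Coprime p := by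
    have h6 := hTD.coprime_relIndex
    apply Nat.Coprime.coprime_dvd_left _ h6
    exact Subgroup.index_dvd_of_le (comap_mono hTK)
  unfold pElementClosure
  rw [closure_le]
  rintro x ⟨hx, k, hk⟩
  have := FStar.mem_of_isSubnormal_of_coprime (p := p) hKs hidx (x := ⟨x, hx⟩)
    ⟨k, by rw [← orderOf_coe]; exact hk⟩
  exact this

theorem point_join {T L₁ L₂ : Subgroup G} (hG : LocP p (⊤ : Subgroup G)) (hT : SylIn p T ⊤)
    (h₁ : L₁.IsSubnormal) (h₂ : L₂.IsSubnormal) :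
    pointStabilizer p (L₁ ⊔ L₂) (T ⊓ (L₁ ⊔ L₂)) =
      pointStabilizer p L₁ (T ⊓ L₁) ⊔ pointStabilizer p L₂ (T ⊓ L₂) := by
  have key : ∀ X : Subgroup G, X.IsSubnormal → pointStabilizer p X (T ⊓ X) =
      pElementClosure p (X ⊓ centralizer (Z1 p T : Set G)) := by
    intro X hX
    rw [← point_eq hG hT hX]
    rfl
  rw [key _ (H62.isSubnormal_sup h₁ h₂), key _ h₁, key _ h₂]
  exact pElementClosure_join hT (le_centralizer_Z1 T) h₁ h₂

theorem locP_top_of (h : IsOfLocalCharacteristic p G) : LocP p (⊤ : Subgroup G) := by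
  intro R _ hR hR1
  rw [top_inf_eq]
  exact charP'_iff.1 (h.2 R hR hR1)

end Cfsg.Agent.H47
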