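import Cfsg.Agent.H47.Sub
import Cfsg.Agent.FStar.Layer

/-!
Groups whose `O^p` is quasisimple (S2815).
-/

set_option autoImplicit false
open Cfsg Subgroup
open scoped commutatorElement

namespace Cfsg.Agent.H47

variable {G : Type*} [Group G] {p : ℕ} [Finite G] [Fact p.Prime]

/-- if `O_p(G) = 1` and `K = O^p(G)` then `C_G(K)` is a `p'`-group contained in `K`. -/
theorem centralizer_pRes_le (hO : pCore p G = ⊥) :
    centralizer (pRes p (⊤ : Subgroup G) : Set G) ≤ pRes p (⊤ : Subgroup G) ∧
      ¬ p ∣ Nat.card (centralizer (pRes p (⊤ : Subgroup G) : Set G)) := by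
  set K := pRes p (⊤ : Subgroup G) with hK
  set C := centralizer (K : Set G) with hC
  have hKn : K.Normal := by
    rw [← normalizer_eq_top_iff, eq_top_iff]; exact le_normalizer_pRes p ⊤
  have hCn : C.Normal := inferInstance
  obtain ⟨P, hP⟩ := SylIn.exists p C
  have h1 : pRes p C ≤ centralizer (C : Set G) := by
    have : pRes p C ≤ K := pRes_mono le_top
    exact this.trans (le_centralizer_symm le_rfl)
  have h2 : C ≤ normalizer (P : Set G) := by
    have h3 : pRes p C ⊔ P ≤ normalizer (P : Set G) := by
      refine sup_le ?_ le_normalizer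
      exact (h1.trans (centralizer_anti hP.le)).trans (centralizer_le_normalizer P)
    rwa [SylIn.pRes_sup hP] at h3
  have h3 : P ≤ pCore p G :=
    le_pCore_of_isSubnormal (isSubnormal_of_le_normalizer hCn.isSubnormal hP.le h2) hP.isPGroup
  rw [hO, le_bot_iff] at h3
  subst h3
  refine ⟨?_, ?_⟩
  · have h4 := SylIn.pRes_sup hP
    rw [sup_bot_eq] at h4
    rw [← h4]; exact pRes_mono le_top
  · have := hP.not_dvd_index
    simpa using this

theorem quasisimple_residual (hp : p ∣ Nat.card G) (hO : pCore p G = ⊥)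
    (hq : IsQuasisimple (pRes p (⊤ : Subgroup G))) :
    pRes p (⊤ : Subgroup G) = generalizedFittingSubgroup G ∧
      (∀ Y : Subgroup G, IsPGroup p Y → Y ≠ ⊥ →
        ⁅pRes p (⊤ : Subgroup G), Y⁆ = pRes p (⊤ : Subgroup G)) ∧
      (∀ C : Subgroup G, C.Normal → ¬ pRes p (⊤ : Subgroup G) ≤ C → (Nat.card C).Coprime p) ∧
      IsPIrreducible p G := by
  obtain ⟨h1, h2⟩ := centralizer_pRes_le hO
  rw [isPIrreducible_top_iff]
  unfold PIrr
  set K := pRes p (⊤ : Subgroup G) with hK
  have hKn : K.Normal := by
    rw [← normalizer_eq_top_iff, eq_top_iff]; exact le_normalizer_pRes p ⊤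
  have hKK : ⁅K, K⁆ = K := FStar.commutator_self hq
  have hcomp : IsComponent K := ⟨hKn.isSubnormal, hq⟩
  -- normal subgroups
  have hnorm : ∀ C : Subgroup G, K ≤ normalizer (C : Set G) → ¬ K ≤ C →
      C ≤ centralizer (K : Set G) := by
    intro C hC hKC
    have h3 : ⁅K, C⁆ ≤ K ⊓ C := le_inf (commutator_le_left _ _)
      (le_normalizer_iff_commutator_le_right.1 hC)
    have h4 : ((K ⊓ C).subgroupOf K).IsSubnormal := by
      apply Normal.isSubnormal
      exact normal_subgroupOf_of_le (le_normalizer_inf le_normalizer hC)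
    rcases FStar.eq_or_commutator_eq_bot hq inf_le_left h4 with h5 | h5
    · exact absurd (h5 ▸ inf_le_right) hKC
    · have h6 : ⁅⁅K, C⁆, K⁆ = ⊥ := by
        rw [eq_bot_iff, ← h5]; exact commutator_mono h3 le_rfl
      have h7 := FStar.commutator_eq_bot_of_perfect hKK h6
      rw [commutator_comm, commutator_eq_bot_iff_le_centralizer] at h7
      exact h7
  have hcop : ∀ C : Subgroup G, K ≤ normalizer (C : Set G) → ¬ K ≤ C → (Nat.card C).Coprime p := by
    intro C hC hKC
    have h3 := hnorm C hC hKC
    rw [Nat.coprime_comm, Nat.Prime.coprime_iff_not_dvd Fact.out]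
    exact fun h => h2 (h.trans (card_dvd_of_le h3))
  have hY : ∀ Y : Subgroup G, IsPGroup p Y → Y ≠ ⊥ → ⁅K, Y⁆ = K := by
    intro Y hYp hY1
    have h3 : ⁅K, Y⁆ ≤ K := commutator_le_left _ _
    have h4 : (⁅K, Y⁆.subgroupOf K).IsSubnormal := by
      apply Normal.isSubnormal
      exact normal_subgroupOf_of_le (normalizer_commutator_ge_left _ _)
    rcases FStar.eq_or_commutator_eq_bot hq h3 h4 with h5 | h5
    · exact h5
    · exfalso
      have h7 := FStar.commutator_eq_bot_of_perfect hKK h5
      rw [commutator_comm, commutator_eq_bot_iff_le_centralizer] at h7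
      have : Nontrivial Y := (Subgroup.nontrivial_iff_ne_bot Y).2 hY1
      rcases hYp.card_eq_or_dvd with h | h
      · exact absurd h (Finite.one_lt_card).ne'
      · exact h2 (h.trans (card_dvd_of_le h7))
  refine ⟨?_, hY, fun C hC => hcop C le_normalizer_of_normal, ?_, ?_⟩
  · have hlay : K ≤ layer G := FStar.component_le_layer hcomp
    apply le_antisymm (hlay.trans FStar.layer_le_generalizedFitting)
    apply sup_le
    · rw [FStar.layer_le_iff]
      intro L hL
      rcases FStar.component_le_or_commute hL hKn.isSubnormal with h | h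
      · exact h
      · rw [commutator_eq_bot_iff_le_centralizer] at h
        exact h.trans h1
    · have h3 := FStar.layer_commute_fitting (G := G)
      rw [commutator_comm, commutator_eq_bot_iff_le_centralizer] at h3
      exact (h3.trans (centralizer_anti hlay)).trans h1
  · intro h
    rw [isPClosed_iff_sylIn, pCoreOf_top, hO] at h
    apply h.not_dvd_index
    simpa using hp
  · intro N _ hN hNc
    by_contra hKN
    apply hNc
    have h3 := hcop N (le_top.trans hN) hKN
    rw [isPClosed_iff_sylIn]
    have h4 : pCoreOf p N = ⊥ := by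
      rw [eq_bot_iff, ← hO]
      have : N.Normal := by rw [← normalizer_eq_top_iff, eq_top_iff]; exact hN
      exact pCoreOf_le_of_isSubnormal this.isSubnormal
    rw [h4]
    apply sylIn_of_not_dvd_index bot_le (IsPGroup.of_bot)
    rw [relIndex_bot_left]
    intro h5
    rw [Nat.coprime_comm, Nat.Prime.coprime_iff_not_dvd Fact.out] at h3
    exact h3 h5

end Cfsg.Agent.H47
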